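/-
Two-groups without normal elementary abelian subgroups of order eight: basic lemmas.
-/
import Cfsg.Agent.IC.A
import Cfsg.Agent.Pgp.A
import Cfsg.Agent.Ly.Final
set_option autoImplicit false
set_option linter.unusedSectionVars false

namespace CF.MW
open Subgroup Cfsg CF.BG CF.Sig CF.GW CF.Ab2
open CF.Invol (mem_sup_zpowers_iff card_sup_zpowers)
open scoped commutatorElement

variable {G : Type*} [Group G] [Finite G]
variable {A B C D E K L M N P Q S T U V W X Y Z : Subgroup G} {a b c d g h k p r s t u v w x y z : G}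

/-- no normal elementary abelian subgroup of order `8` -/
def NE (T : Subgroup G) : Prop := ∀ E, E ⊴ T → (∀ x ∈ E, x * x = 1) → ♯E ≤ 4

theorem normal_of_comm (l : U ≤ E) (l' : E ≤ T) (m : ∀ x ∈ E, ∀ s ∈ T, ⁅x, s⁆ ∈ U) : E ⊴ T :=
  ⟨l', le_norm_iff.2 fun s hs x hx => by
    have := mul_mem (inv_mem (l (m x hx s hs))) hx
    simpa [commutatorElement_def, mul_assoc] using this⟩

theorem comm_mul_l (x y s : G) : ⁅x * y, s⁆ = x * ⁅y, s⁆ * x⁻¹ * ⁅x, s⁆ := by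
  simp only [commutatorElement_def]; group
theorem comm_mul_r (x s r : G) : ⁅x, s * r⁆ = ⁅x, s⁆ * (s * ⁅x, r⁆ * s⁻¹) := by
  simp only [commutatorElement_def]; group
theorem sq_mul (x y : G) : x * y * (x * y) = x * ⁅y, x⁆ * x⁻¹ * (x * x) * (y * y) := by
  simp only [commutatorElement_def]; group
theorem conj_eq_comm (x s : G) : x * s * x⁻¹ = ⁅x, s⁆ * s := by
  simp only [commutatorElement_def]; group
theorem conj_of_cent (c : x ∈ 𝐂 U) (hu : u ∈ U) : x * u * x⁻¹ = u := by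
  rw [← c u hu, mul_inv_cancel_right]
theorem comm_eq_one (c : x * y = y * x) : ⁅x, y⁆ = 1 := commutatorElement_eq_one_iff_mul_comm.2 c
theorem comm_of_eq_one (c : ⁅x, y⁆ = 1) : x * y = y * x := commutatorElement_eq_one_iff_mul_comm.1 c

open scoped _root_.Classical in
/-- the preimage of `Ω₁ Z(T / U)` -/
noncomputable def YY (T U : Subgroup G) : Subgroup G :=
  if n : U ⊴ T then
  { carrier := {y | y ∈ T ∧ y * y ∈ U ∧ ∀ s ∈ T, ⁅y, s⁆ ∈ U}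
    one_mem' := ⟨one_mem _, by simp, fun s _ => by simp⟩
    mul_mem' := fun {x y} hx hy => ⟨mul_mem hx.1 hy.1, by
        rw [sq_mul]
        exact mul_mem (mul_mem (n.conj_mem hx.1 (hy.2.2 x hx.1)) hx.2.1) hy.2.1, fun s hs => by
        rw [comm_mul_l]
        exact mul_mem (n.conj_mem hx.1 (hy.2.2 s hs)) (hx.2.2 s hs)⟩
    inv_mem' := fun {x} hx => ⟨inv_mem hx.1, by rw [← mul_inv_rev]; exact inv_mem hx.2.1, fun s hs => by
        have := n.conj_mem (inv_mem hx.1) (inv_mem (hx.2.2 s hs))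
        convert this using 1
        simp only [commutatorElement_def]; group⟩ }
  else ⊥

theorem mem_YY (n : U ⊴ T) : y ∈ YY T U ↔ y ∈ T ∧ y * y ∈ U ∧ ∀ s ∈ T, ⁅y, s⁆ ∈ U := by
  rw [YY, dif_pos n]; rfl
theorem YY_le (n : U ⊴ T) : YY T U ≤ T := fun _ h => ((mem_YY n).1 h).1
theorem le_YY (n : U ⊴ T) : U ≤ YY T U := fun u hu => (mem_YY n).2 ⟨n.le hu, mul_mem hu hu, fun s hs => by
  have := mul_mem hu (n.conj_mem hs (inv_mem hu))
  simpa [commutatorElement_def, mul_assoc] using this⟩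
theorem YY_normal (n : U ⊴ T) : YY T U ⊴ T :=
  normal_of_comm (le_YY n) (YY_le n) fun _ hx => ((mem_YY n).1 hx).2.2
theorem norm_YY (n : U ⊴ T) (a : g ∈ 𝐍 T) (b : g ∈ 𝐍 U) : g ∈ 𝐍 (YY T U) := mem_norm_of_cj_le fun y hy => by
  obtain ⟨x, hx, rfl⟩ := mem_cj_iff.1 hy
  obtain ⟨h1, h2, h3⟩ := (mem_YY n).1 hx
  refine (mem_YY n).2 ⟨conj_mem_of_norm a h1, ?_, fun s hs => ?_⟩
  · convert conj_mem_of_norm b h2 using 1; group
  · convert conj_mem_of_norm b (h3 _ (conj_mem_of_norm (inv_mem a) hs)) using 1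
    simp only [commutatorElement_def]; group

theorem exists_lift (k : P2 T) (nK : K ⊴ T) (n : U ⊴ T) (l : U ≤ K) (e : ¬ K ≤ U) :
    ∃ y ∈ K, y ∉ U ∧ y ∈ YY T U := by
  obtain ⟨u, hu, m, c⟩ := exists_fixed_mod k (k.le nK.le) nK.norm n.norm (nK.le.trans n.norm) e
  have key : ∀ i : ℕ, ∀ u ∈ K, u ∉ U → (∀ x ∈ T, ⁅u, x⁆ ∈ U) → u ^ 2 ^ i = 1 → ∃ y ∈ K, y ∉ U ∧ y ∈ YY T U := by
    intro i
    induction i with
    | zero => exact fun u _ m _ e => absurd (by rw [show u = 1 by simpa using e]; exact one_mem _) m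
    | succ i ih =>
      intro u hu m c e
      by_cases f : u * u ∈ U
      · exact ⟨u, hu, m, (mem_YY n).2 ⟨nK.le hu, f, c⟩⟩
      · refine ih _ (mul_mem hu hu) f (fun x hx => ?_) (by rw [← pow_two, ← pow_mul, ← pow_succ', e])
        rw [comm_mul_l]
        exact mul_mem (n.conj_mem (nK.le hu) (c x hx)) (c x hx)
  obtain ⟨i, hi⟩ := k.isPGroup ⟨u, nK.le hu⟩
  exact key i u hu m c (congrArg Subtype.val hi)

theorem NE.iv_mem (H : NE T) (n : U ⊴ T) (e : ∀ u ∈ U, u * u = 1) (c : ♯U = 4) (hx : x ∈ YY T U) (i : x * x = 1)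
    (cx : x ∈ 𝐂 U) : x ∈ U := by
  by_contra m
  have nx := n.norm (YY_le n hx)
  have l : U ⊔ zpowers x ≤ YY T U := sup_le (le_YY n) (zpowers_le.2 hx)
  have := H (U ⊔ zpowers x) (normal_of_comm le_sup_left (l.trans (YY_le n)) fun y hy => ((mem_YY n).1 (l hy)).2.2)
    fun y hy => by
      rcases (mem_sup_zpowers_iff nx (i ▸ one_mem U)).1 hy with f | f
      · exact e y f
      · obtain ⟨u, hu, rfl⟩ : ∃ u ∈ U, y = u * x := ⟨_, f, by simp⟩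
        rw [mul_assoc, ← mul_assoc x, ← cx u hu, mul_assoc, i, mul_one, e u hu]
  rw [card_sup_zpowers nx (i ▸ one_mem U) m, c] at this
  omega

theorem nc (hS : Syl 2 T ⊤) (c : T ≤ 𝐂 U) (e : E2 x) (n : x ∈ 𝐍 U) : x ∈ 𝐂 U :=
  e.mem_of_relIndex n (norm_le_norm_cent U) ((hS.of_le (c.trans (cent_le_norm U)) le_top).idx_of_le c)

/-- a maximal normal abelian subgroup of exponent `4` -/
structure M4 (T W : Subgroup G) : Prop where
  n : W ⊴ T
  a : Abel W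
  e : ∀ w ∈ W, w * w * (w * w) = 1
  m : ∀ x ∈ T, x ∈ 𝐂 W → x * x * (x * x) = 1 → x ∈ W

theorem p4 (x : G) : x ^ 2 ^ 2 = x * x * (x * x) := by
  rw [show 2 ^ 2 = 2 + 2 from rfl, pow_add, pow_two]

theorem m4_of (k : P2 T) (n : W ⊴ T) (a : Abel W) (e : ∀ w ∈ W, w * w * (w * w) = 1)
    (m : ∀ B, B ⊴ T → Abel B → (∀ w ∈ B, w * w * (w * w) = 1) → W ≤ B → B = W) : M4 T W :=
  ⟨n, a, e, fun _ hx c f => CF.Pgp.alperin (n := 2) p2 (by decide) k n a (fun z hz => (p4 z).trans (e z hz))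
    (fun B h1 h2 h3 => m B h1 h2 fun w hw => (p4 w).symm.trans (h3 w hw)) hx c ((p4 _).trans f)⟩

theorem exists_m4 (k : P2 T) (n : A ⊴ T) (a : Abel A) (e : ∀ w ∈ A, w * w * (w * w) = 1) : ∃ W, A ≤ W ∧ M4 T W := by
  obtain ⟨W, l, hW⟩ := Finite.exists_le_maximal
    (p := fun B : Subgroup G => B ⊴ T ∧ Abel B ∧ ∀ w ∈ B, w * w * (w * w) = 1) ⟨n, a, e⟩
  exact ⟨W, l, m4_of k hW.1.1 hW.1.2.1 hW.1.2.2 fun B h1 h2 h3 h4 => le_antisymm (hW.2 ⟨h1, h2, h3⟩ h4) h4⟩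

theorem mem_om (a : Abel W) : x ∈ 𝛀 2 W ↔ x ∈ W ∧ x * x = 1 := by rw [a.mem_Om, pow_two]

theorem NE.mem_of_abel (H : NE T) (n : W ⊴ T) (a : Abel W) (l : U ≤ W) (e : ∀ u ∈ U, u * u = 1) (c : ♯U = 4)
    (hx : x ∈ W) (i : x * x = 1) : x ∈ U := by
  have h1 : U ≤ 𝛀 2 W := fun u hu => (mem_om a).2 ⟨l hu, e u hu⟩
  have := eq_of_card_le h1 (c ▸ H _ (n.Om 2) fun x hx => ((mem_om a).1 hx).2)
  exact this ▸ (mem_om a).2 ⟨hx, i⟩

theorem v4_eq (c : ♯U = 4) (f : FP a b) (ha : a ∈ U) (hb : b ∈ U) : V4 a b = U :=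
  eq_of_card_le (sup_le (zpowers_le.2 ha) (zpowers_le.2 hb)) (by rw [c, f.card])

theorem fp_of (e : ∀ u ∈ U, u * u = 1) (ha : a ∈ U) (hb : b ∈ U) (a1 : a ≠ 1) (b1 : b ≠ 1) (n : a ≠ b) : FP a b :=
  ⟨.mk' a1 (e a ha), .mk' b1 (e b hb), (CF.ZD.abel_of_sq e).mul_comm ha hb, n⟩

/-- an involution which is a square lies in the central four-group -/
theorem NE.sq_mem (H : NE T) (k : P2 T) (l : U ≤ T) (z : T ≤ 𝐂 U) (e : ∀ u ∈ U, u * u = 1) (c : ♯U = 4)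
    (hx : x ∈ T) (i : x * x * (x * x) = 1) : x * x ∈ U := by
  obtain ⟨W, l', hW⟩ := exists_m4 k ⟨l, z.trans (cent_le_norm U)⟩ (CF.ZD.abel_of_sq e) fun w hw => by
    rw [e w hw, mul_one]
  have om := fun y => H.mem_of_abel (x := y) hW.n hW.a l' e c
  refine om _ (hW.m _ (mul_mem hx hx) (fun w hw => ?_) (by rw [i, mul_one])) i
  have h1 : ⁅x, w⁆ ∈ W := mul_mem (hW.n.conj_mem hx hw) (inv_mem hw)
  have h2 : ⁅x, w⁆ ∈ U := om _ h1 (by
    have h3 := conj_of_cent (z hx) (om _ (mul_mem hw hw) (hW.e w hw))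
    rw [show x * (w * w) * x⁻¹ = x * w * x⁻¹ * (x * w * x⁻¹) by group, conj_eq_comm, mul_assoc, ← mul_assoc w,
      hW.a.mul_comm hw h1, mul_assoc, ← mul_assoc] at h3
    exact mul_eq_right.1 h3)
  refine (comm_of_eq_one ?_).symm
  rw [comm_mul_l, conj_of_cent (z hx) h2, e _ h2]

theorem exists_not_mem (c : ♯A < ♯B) : ∃ x ∈ B, x ∉ A := by
  by_contra! e
  exact absurd (card_le e) (by omega)

theorem card_two (n : U ⊴ P) (hx : x ∈ YY P U) (hy : y ∈ YY P U) (mx : x ∉ U) (my : y ∉ U) (m : x * y ∉ U) :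
    ♯(U ⊔ zpowers x ⊔ zpowers y : Subgroup G) = 4 * ♯U := by
  have l1 : U ⊔ zpowers x ≤ YY P U := sup_le (le_YY n) (zpowers_le.2 hx)
  have h1 := n.norm (YY_le n hx)
  have h2 := ((mem_YY n).1 hx).2.1
  rw [card_sup_zpowers ((normal_of_comm le_sup_left (l1.trans (YY_le n)) fun a ha =>
    ((mem_YY n).1 (l1 ha)).2.2).norm (YY_le n hy)) (mem_sup_left ((mem_YY n).1 hy).2.1) fun e =>
      ((mem_sup_zpowers_iff h1 h2).1 e).elim my fun e => m (by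
        simpa [mul_assoc] using mul_mem (conj_mem_of_norm h1 e) h2), card_sup_zpowers h1 h2 mx]
  omega

theorem two_gen (n : U ⊴ T) (m : P ≤ YY T U) (c : 2 * ♯U < ♯P) : ∃ x ∈ P, ∃ y ∈ P, x ∉ U ∧ y ∉ U ∧ x * y ∉ U := by
  have := card_pos' U
  obtain ⟨x, hx, mx⟩ := exists_not_mem (A := U) (B := P) (by omega)
  have c1 := card_sup_zpowers (n.norm (YY_le n (m hx))) ((mem_YY n).1 (m hx)).2.1 mx
  obtain ⟨y, hy, my⟩ := exists_not_mem (A := U ⊔ zpowers x) (B := P) (by omega)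
  exact ⟨x, hx, y, hy, mx, fun e => my (mem_sup_left e), fun e => my ((mul_mem_cancel_left
    (mem_sup_right (mem_zpowers x))).1 (mem_sup_left e))⟩

theorem comm_of_sq (c : x ∈ 𝐂 U) (m : ⁅y, x⁆ ∈ U) (i : w * w = 1) (ex : x * x = w) (ey : y * y = w) :
    x * y * (x * y) = ⁅y, x⁆ := by
  rw [sq_mul, conj_of_cent c m, ex, ey, mul_assoc, i, mul_one]

/-- an anisotropic quadratic form has rank at most two -/
theorem sv (n : U ⊴ T) (c : P ≤ 𝐂 U) (m : P ≤ YY T U) (i : Iv w) (q : ∀ x ∈ P, x ∉ U → x * x = w) :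
    ♯P ≤ 4 * ♯U := by
  by_contra! f
  have k : ∀ x ∈ P, ∀ y ∈ P, x ∉ U → y ∉ U → x * y ∉ U → ⁅y, x⁆ = w := fun x hx y hy h1 h2 h3 => by
    rw [← comm_of_sq (c hx) (((mem_YY n).1 (m hy)).2.2 x (YY_le n (m hx))) i.sq (q x hx h1) (q y hy h2), q _ (mul_mem hx hy) h3]
  obtain ⟨x, hx, y, hy, h1, h2, h3⟩ := two_gen n m (by omega)
  have e := card_two n (m hx) (m hy) h1 h2 h3
  obtain ⟨v, hv, mv⟩ := exists_not_mem (A := U ⊔ zpowers x ⊔ zpowers y) (B := P) (by omega)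
  have a1 : x ∈ U ⊔ zpowers x ⊔ zpowers y := mem_sup_left (mem_sup_right (mem_zpowers x))
  have a2 : y ∈ U ⊔ zpowers x ⊔ zpowers y := mem_sup_right (mem_zpowers y)
  have k' : ∀ a ∈ U ⊔ zpowers x ⊔ zpowers y, a * v ∉ U := fun a ha e =>
    mv ((mul_mem_cancel_left ha).1 (mem_sup_left (mem_sup_left e)))
  have := k x hx _ (mul_mem hy hv) h1 (k' y a2) (by rw [← mul_assoc]; exact k' _ (mul_mem a1 a2))
  have hw : w ∈ U := q x hx h1 ▸ ((mem_YY n).1 (m hx)).2.1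
  rw [comm_mul_l, k x hx y hy h1 h2 h3, k x hx v hv h1 (by simpa using k' 1 (one_mem _)) (k' x a1),
    conj_of_cent (c hy) hw, i.sq] at this
  exact i.ne_one this.symm

theorem plane (e : ∀ v ∈ V, v * v = 1) (c : ♯V ≤ 8) (n : g ∈ 𝐍 V) (o : Eo g) (f : g ∉ 𝐂 V) :
    ∃ x ∈ V, ∃ a ∈ zpowers g, ∃ b ∈ zpowers g, a * x * a⁻¹ ≠ x ∧ x * (a * x * a⁻¹) = b * x * b⁻¹ := by
  obtain ⟨x, hx, m⟩ : ∃ x ∈ V, x * g ≠ g * x := by
    by_contra! k
    exact f k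
  have ab := CF.ZD.abel_of_sq e
  let σ := MulAut.conj g
  have hσ : ∀ y ∈ V, σ y ∈ V := fun y hy => conj_mem_of_norm n hy
  have g1 := mem_zpowers g
  have p2 : ∀ y, σ (σ y) = g * g * y * (g * g)⁻¹ := fun y => by simp only [σ, MulAut.conj_apply]; group
  have p3 : ∀ y, σ (σ (σ y)) = g * g * g * y * (g * g * g)⁻¹ := fun y => by simp only [σ, MulAut.conj_apply]; group
  have n1 : σ x ≠ x := fun k => m (mul_inv_eq_iff_eq_mul.1 k).symm
  have od : ∀ k, Eo k → k * k ∈ 𝐂₁ x → k ∈ 𝐂₁ x := fun k o => sq_mem_of_odd o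
  have n2 : σ (σ x) ≠ x := fun k => m (mem_cent1.1 (od g o (mem_cent1.2 (by
    rwa [p2, mul_inv_eq_iff_eq_mul] at k)))).symm
  have n4 : σ (σ (σ (σ x))) ≠ x := fun k => m (mem_cent1.1 (od g o (od _ (o.mul o rfl) (mem_cent1.2 (by
    rwa [p2, p2, show g * g * (g * g * x * (g * g)⁻¹) * (g * g)⁻¹ = g * g * (g * g) * x * (g * g * (g * g))⁻¹ by
      group, mul_inv_eq_iff_eq_mul] at k))))).symm
  have x1 : x ≠ 1 := by rintro rfl; simp at m
  have h1 := hσ x hx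
  have h2 := hσ _ h1
  have F := fp_of e hx h1 x1 (by simpa using x1) n1.symm
  have k2 : σ (σ x) ∈ V4 x (σ x) → σ (σ x) = x * σ x := fun k => by
    rcases F.mem.1 k with k | k | k | k
    exacts [absurd (by simpa using k) x1, absurd k n2, absurd (σ.injective k) n1, k]
  by_cases k : σ (σ x) ∈ V4 x (σ x)
  · exact ⟨x, hx, g, g1, _, mul_mem g1 g1, n1, by rw [← p2, k2 k]; rfl⟩
  have l : V4 x (σ x) ≤ V := sup_le (zpowers_le.2 hx) (zpowers_le.2 h1)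
  have nn : σ (σ x) ∈ 𝐍 (V4 x (σ x)) := cent_le_norm _ (cent_mono ab le_rfl l h2)
  have hV := eq_of_card_le (sup_le l (zpowers_le.2 h2)) (by
    rw [card_sup_zpowers nn (e _ h2 ▸ one_mem _) k, F.card]; exact c)
  rcases (mem_sup_zpowers_iff nn (e _ h2 ▸ one_mem _)).1 (hV.ge (hσ _ h2)) with r | r <;>
    rcases F.mem.1 r with r | r | r | r
  · exact absurd (by simpa using r) x1
  · refine ⟨_, mul_mem hx h1, g, g1, _, mul_mem g1 g1, fun j => n2 ?_, ?_⟩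
    · change σ _ = _ at j
      rw [map_mul, ab.mul_comm hx h1] at j
      exact mul_left_cancel j
    · change _ * σ _ = _
      rw [← p2, map_mul, map_mul, r, mul_assoc, ← mul_assoc (σ x), e _ h1, one_mul, ab.mul_comm hx h2]
  · exact absurd (σ.injective r) n2
  · exact ⟨x, hx, g, g1, _, mul_mem (mul_mem g1 g1) g1, n1, by rw [← p3, r]; rfl⟩
  · exact absurd (σ.injective (σ.injective (mul_inv_eq_one.1 r))) n1
  · exact ⟨x, hx, _, mul_mem g1 g1, _, mul_mem (mul_mem g1 g1) g1, p2 x ▸ n2, by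
      rw [← p3, ← p2, mul_inv_eq_iff_eq_mul.1 r]⟩
  · rw [mul_inv_eq_iff_eq_mul, ← map_mul] at r
    exact absurd (σ.injective r ▸ mul_mem (left_mem_V4 _ _) (right_mem_V4 _ _)) k
  · rw [mul_inv_eq_iff_eq_mul] at r
    refine absurd ?_ n4
    rw [r, map_mul, map_mul, r, ab.mul_comm (mul_mem hx h1) h2, mul_assoc, ← mul_assoc (σ (σ x)), e _ h2, one_mul,
      ab.mul_comm hx h1, ← mul_assoc, e _ h1, one_mul]

theorem sq_mul_cent (c : x ∈ 𝐂 U) (e : ∀ u ∈ U, u * u = 1) (hu : u ∈ U) : x * u * (x * u) = x * x := by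
  rw [mul_assoc, ← mul_assoc u, c u hu, mul_assoc, e u hu, mul_one]

theorem plane2 (l : U ≤ Y) (cY : Y ≤ 𝐂 U) (e : ∀ u ∈ U, u * u = 1) (m : ∀ y ∈ Y, y * y ∈ U) (c : ♯Y ≤ 8 * ♯U)
    (a : h ∈ 𝐂 U) (b : h ∈ 𝐍 Y) (o : Eo h) (f : ∃ y ∈ Y, ⁅h, y⁆ ∉ U) :
    ∃ x ∈ Y, ∃ y ∈ Y, x ∉ U ∧ y ∉ U ∧ x * y ∉ U ∧ y * y = x * x ∧ x * y * (x * y) = x * x := by
  have n := cY.trans (cent_le_norm U)
  have a' := cent_le_norm U a
  obtain ⟨x, hx', p, hp', q, hq', e1, e2⟩ := plane (V := qt U Y) (g := qe U h) (fun v hv => by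
      obtain ⟨y, hy, ny, rfl⟩ := mem_qt.1 hv
      rw [← qe_mul ny ny, qe_of_mem (m y hy)])
    (by
      have := card_mul_relIndex l
      have := card_pos' U
      rw [card_qt n]; nlinarith)
    (zpowers_le.1 (qt_zpowers a' ▸ qt_norm U (zpowers_le.2 b))) (o.qe a') (fun k => by
      obtain ⟨y, hy, f⟩ := f
      exact f ((qe_eq_one (mul_mem (mul_mem (mul_mem a' (n hy)) (inv_mem a')) (inv_mem (n hy)))).1 (by
        rw [← commutatorElement_def, qe_comm a' (n hy)]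
        exact comm_eq_one (k _ (qe_mem_qt hy (n hy))).symm)))
  rw [← qt_zpowers a'] at hp' hq'
  obtain ⟨x, hx, nx, rfl⟩ := mem_qt.1 hx'
  obtain ⟨p, hp, np, rfl⟩ := mem_qt.1 hp'
  obtain ⟨q, hq, nq, rfl⟩ := mem_qt.1 hq'
  have s : ∀ p ∈ zpowers h, p * x * p⁻¹ ∈ Y ∧ p * x * p⁻¹ * (p * x * p⁻¹) = x * x := fun p hp =>
    ⟨conj_mem_of_norm (zpowers_le.2 b hp) hx, by
      rw [← conj_of_cent (zpowers_le.2 a hp) (m x hx)]; group⟩
  have mx : x ∉ U := fun k => e1 (by rw [qe_of_mem k]; simp)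
  rw [← qe_conj np nx] at e1
  rw [← qe_conj np nx, ← qe_conj nq nx, ← qe_mul nx (n (s p hp).1), eq_comm,
    qe_eq_iff (n (s q hq).1) (n (mul_mem hx (s p hp).1))] at e2
  have m' : ∀ p ∈ zpowers h, p * x * p⁻¹ ∉ U := fun p hp k =>
    mx (by simpa [mul_assoc] using conj_mem_of_norm (inv_mem (zpowers_le.2 a' hp)) k)
  refine ⟨x, hx, _, (s p hp).1, mx, m' p hp, fun k => m' q hq (inv_mem_iff.1 ((mul_mem_cancel_right k).1 e2)),
    (s p hp).2, ?_⟩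
  have := sq_mul_cent (cY (s q hq).1) e e2
  rwa [mul_inv_cancel_left, (s q hq).2] at this

/-- Suzuki `2`-groups with three involutions -/
theorem h3 (k : P2 P) (l : U ≤ P) (c : ♯U = 4) (e : ∀ x ∈ P, x ∈ U ↔ x * x = 1) (n : h ∈ 𝐍 P) (o : Eo h)
    (f : h ∉ 𝐂 U) : Abel P ∨ ♯P = 64 ∧ (∀ x ∈ P, x * x ∈ U) ∧ P ⊓ 𝐂 P ≤ U := by
  obtain ⟨ξ, H, h4, -⟩ := CF.Ly.exists_rho (ι := P.subtype) (W := U.subgroupOf P) (b := h) k.isPGroup
    (fun x => by rw [mem_subgroupOf, e x x.2, Subtype.ext_iff]; rfl) (by rw [card_subgroupOf' l, c])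
    P.subtype_injective (by rwa [range_subtype]) (eo_iff.2 o) (by rwa [subgroupOf_map_subtype, inf_eq_left.2 l])
  by_cases a : ∃ x y : P, x * y ≠ y * x
  · obtain ⟨h1, h2⟩ := H.main a
    refine .inr ⟨CF.FusB.card_64 H h4 h1 a, fun x hx => (e _ (mul_mem hx hx)).2 (congrArg Subtype.val (h1 ⟨x, hx⟩)),
      fun x hx => (e x hx.1).2 (congrArg Subtype.val (H.mem_V.1 (h2.le (mem_center_iff.2 fun y =>
        Subtype.ext (hx.2 y y.2) : (⟨x, hx.1⟩ : P) ∈ center P))))⟩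
  · push Not at a
    exact .inl (abel_of_forall fun x hx y hy => congrArg Subtype.val (a ⟨x, hx⟩ ⟨y, hy⟩))

end CF.MW
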