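/-
Sylow two-subgroups without normal elementary abelian subgroups of order eight: an element of odd order acts
nontrivially on a central four-group.
-/
import Cfsg.Agent.MW.A
import Cfsg.Agent.IC.D
import Cfsg.Agent.Ab2.App1
set_option autoImplicit false
set_option linter.unusedSectionVars false

namespace CF.MW
open Subgroup Cfsg CF.BG CF.Sig CF.GW CF.Ab2
open CF.DD (In xfer)
open CF.IC (mul_two sqs mem_sqs relIndex_sqs)
open scoped commutatorElement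

variable {G : Type*} [Group G] [Finite G]
variable {A B C D E K L M N P Q S T U V W X Y Z : Subgroup G} {a b c d g h k p r s t u v w x y z : G}

theorem conj_comm (g x y : G) : g * ⁅x, y⁆ * g⁻¹ = ⁅g * x * g⁻¹, g * y * g⁻¹⁆ := by
  simp only [commutatorElement_def]; group
theorem conj_sq' (g x : G) : g * (x * x) * g⁻¹ = g * x * g⁻¹ * (g * x * g⁻¹) := by group
theorem conj_mul' (g x y : G) : g * (x * y) * g⁻¹ = g * x * g⁻¹ * (g * y * g⁻¹) := by group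

theorem cm (n : U ⊴ T) (z : s ∈ 𝐂 U) (hy : y ∈ YY T U) (hr : r ∈ T) : ⁅y, s * r⁆ = ⁅y, s⁆ * ⁅y, r⁆ := by
  rw [comm_mul_r, conj_of_cent z (((mem_YY n).1 hy).2.2 r hr)]

theorem le_YY_of (k : P2 T) (l : U ≤ T) (z : T ≤ 𝐂 U) (e : ∀ u ∈ U, u * u = 1)
    (c : YY T U ⊓ 𝐂 (YY T U) ≤ U) : T ≤ YY T U := by
  have n : U ⊴ T := ⟨l, z.trans (cent_le_norm U)⟩
  have K : T ⊓ 𝐂 (YY T U) ≤ U := by
    by_contra f
    obtain ⟨y, hy, m, hY⟩ := exists_lift k ⟨inf_le_left, norm_inf_cent (le_norm_self T) (YY_normal n).norm⟩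
      n (le_inf l (cent_symm ((YY_le n).trans z))) f
    exact m (c ⟨hY, hy.2⟩)
  refine fun s hs => (mem_YY n).2 ⟨hs, K (mem_inf.2 ⟨mul_mem hs hs, fun y hy => comm_of_eq_one ?_⟩), fun r hr =>
    K (mem_inf.2 ⟨mul_mem (mul_mem (mul_mem hs hr) (inv_mem hs)) (inv_mem hr), fun y hy => comm_of_eq_one ?_⟩)⟩
  · rw [cm n (z hs) hy hs, e _ (((mem_YY n).1 hy).2.2 s hs)]
  · have h1 : ⁅s, r⁆ ∈ T := mul_mem (mul_mem (mul_mem hs hr) (inv_mem hs)) (inv_mem hr)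
    have := cm n (z h1) hy (mul_mem hr hs)
    rw [show ⁅s, r⁆ * (r * s) = s * r by simp only [commutatorElement_def]; group, cm n (z hs) hy hr,
      cm n (z hr) hy hs, (CF.ZD.abel_of_sq e).mul_comm (((mem_YY n).1 hy).2.2 s hs) (((mem_YY n).1 hy).2.2 r hr)]
      at this
    exact mul_eq_right.1 this.symm

theorem fix_coset (k : P2 T) (n : N ⊴ T) (a : h ∈ 𝐍 T) (b : h ∈ 𝐍 N) (o : Eo h) (hx : x ∈ T) (e : ⁅x, h⁆ ∈ N) :
    ∃ r ∈ T, r ∈ 𝐂₁ h ∧ r⁻¹ * x ∈ N := by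
  have := qt_inf_cent' (K := N) (H := T) (zpowers_le.2 b) (zpowers_le.2 a) (cop2' o.zpowers (k.le n.le))
    (.inl (abel_zpowers h).sol)
  rw [qt_zpowers b, cent_zpowers, cent_zpowers] at this
  obtain ⟨y, hy, ny, e'⟩ := mem_qt.1 (this.ge ⟨qe_mem_qt hx (n.norm hx), mem_cent1.2 (comm_of_eq_one (by
    rw [← qe_comm (n.norm hx) b, qe_of_mem e]))⟩)
  exact ⟨y, hy.1, hy.2, (qe_eq_iff ny (n.norm hx)).1 e'⟩

theorem twist (hS : Syl 2 T ⊤) (z : T ≤ 𝐂 U) (c : ♯U = 4) {φ : G ≃* G} (f : FP r w) (h1 : φ r ∈ U) (h2 : φ w ∈ U)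
    (e : E2 x) (h3 : ⁅x, r⁆ = w) (h4 : ⁅x, w⁆ = 1) : False := by
  have F : FP (φ r) (φ w) := ⟨(iv_map_iff (f := φ.toMonoidHom) φ.injective).2 f.l,
    (iv_map_iff (f := φ.toMonoidHom) φ.injective).2 f.r, by rw [← map_mul, f.comm, map_mul],
    fun e => f.ne (φ.injective e)⟩
  have k : ∀ y, φ x * φ y * (φ x)⁻¹ = φ ⁅x, y⁆ * φ y := fun y => by
    rw [← map_inv, ← map_mul, ← map_mul, conj_eq_comm, map_mul]
  have n : φ x ∈ 𝐍 U := by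
    rw [← v4_eq c F h1 h2]
    refine mem_norm_of_cj_le ?_
    rw [cj_sup, cj_zpowers, cj_zpowers, k, k, h3, h4, map_one, one_mul]
    exact sup_le (zpowers_le.2 (mul_mem (right_mem_V4 _ _) (left_mem_V4 _ _))) le_sup_right
  have := conj_of_cent (nc hS z (e.map φ.toMonoidHom) n) h1
  rw [MulEquiv.toMonoidHom_eq_coe, MonoidHom.coe_coe, k, h3] at this
  exact F.r.ne_one (mul_eq_right.1 this)

theorem e2_of (e : x * x * (x * x) = 1) : E2 x := by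
  have := orderOf_dvd_of_pow_eq_one ((p4 x).trans e)
  exact fun p hp d => piNat_pow_self Nat.prime_two 2 p hp (d.trans this)

structure CA (T U : Subgroup G) (h : G) : Prop where
  k : P2 T
  ne : NE T
  l : U ≤ T
  z : T ≤ 𝐂 U
  e : ∀ u ∈ U, u * u = 1
  c : ♯U = 4
  hT : h ∈ 𝐍 T
  hU : h ∈ 𝐍 U
  o : Eo h
  f : h ∉ 𝐂 U

namespace CA
variable (H : CA T U h)
include H

theorem n : U ⊴ T := ⟨H.l, H.z.trans (cent_le_norm U)⟩
theorem hY : h ∈ 𝐍 (YY T U) := norm_YY H.n H.hT H.hU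
theorem iv (hx : x ∈ YY T U) (i : x * x = 1) : x ∈ U := H.ne.iv_mem H.n H.e H.c hx i (H.z (YY_le H.n hx))
theorem ab : Abel U := CF.ZD.abel_of_sq H.e
theorem sqU (hx : x ∈ YY T U) : x * x ∈ U := ((mem_YY H.n).1 hx).2.1
theorem cU (hx : x ∈ YY T U) (hs : s ∈ T) : ⁅x, s⁆ ∈ U := ((mem_YY H.n).1 hx).2.2 s hs

theorem fix (hu : u ∈ U) (e : h * u * h⁻¹ = u) : u = 1 := by
  by_contra u1
  have i := Iv.mk' u1 (H.e u hu)
  obtain ⟨v, hv, m⟩ := exists_not_mem (A := zpowers u) (B := U) (by rw [i.card, H.c]; omega)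
  have F := fp_of H.e hu hv u1 (fun e => m (e ▸ one_mem _)) fun e => m (e ▸ mem_zpowers u)
  have := v4_eq H.c F hu hv
  exact H.f (this ▸ F.cent_of_odd (this ▸ H.hU) (eo_iff.2 H.o) (left_mem_V4 _ _) u1
    (mem_cent1.2 (mul_inv_eq_iff_eq_mul.1 e)))

theorem fp (hu : u ∈ U) (u1 : u ≠ 1) : FP u (h * u * h⁻¹) :=
  fp_of H.e hu (conj_mem_of_norm H.hU hu) u1 (conj_ne_one u1 h) fun e => u1 (H.fix hu e.symm)

theorem cs (hu : u ∈ U) (u1 : u ≠ 1) (hv : v ∈ U) : v = 1 ∨ v = u ∨ v = h * u * h⁻¹ ∨ v = u * (h * u * h⁻¹) :=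
  (H.fp hu u1).mem.1 (v4_eq H.c (H.fp hu u1) hu (conj_mem_of_norm H.hU hu) ▸ hv)

theorem rho (hu : u ∈ U) (u1 : u ≠ 1) : h * (h * u * h⁻¹) * h⁻¹ = u * (h * u * h⁻¹) := by
  have F := H.fp hu u1
  have m := conj_mem_of_norm H.hU hu
  rcases H.cs hu u1 (conj_mem_of_norm H.hU m) with e | e | e | e
  · exact absurd e (F.r.conj h).ne_one
  · exact absurd (H.fix (mul_mem hu m) (by rw [conj_mul', e, F.comm])) F.iv.ne_one
  · exact absurd (H.fix m e) F.r.ne_one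
  · exact e

theorem cl (hx : x ∈ YY T U) (hy : y ∈ YY T U) (hs : s ∈ T) : ⁅x * y, s⁆ = ⁅x, s⁆ * ⁅y, s⁆ := by
  rw [comm_mul_l, conj_of_cent (H.z (YY_le H.n hx)) (H.cU hy hs), H.ab.mul_comm (H.cU hy hs) (H.cU hx hs)]
theorem cr (hx : x ∈ YY T U) (hs : s ∈ T) (hr : r ∈ T) : ⁅x, s * r⁆ = ⁅x, s⁆ * ⁅x, r⁆ := cm H.n (H.z hs) hx hr
theorem cu (hu : u ∈ U) (hs : s ∈ T) : ⁅u, s⁆ = 1 := comm_eq_one (H.z hs u hu)

end CA

structure CB (T U : Subgroup G) (h : G) : Prop extends CA T U h where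
  a : Abel (YY T U)

namespace CB
variable (H : CB T U h)
include H

theorem sqm (hx : x ∈ YY T U) (hy : y ∈ YY T U) : x * y * (x * y) = x * x * (y * y) := by
  rw [sq_mul, comm_eq_one (H.a.mul_comm hy hx), mul_one, mul_inv_cancel, one_mul]

theorem ceq (hx : x ∈ YY T U) (hy : y ∈ YY T U) (e : x * x = y * y) (hs : s ∈ T) : ⁅x, s⁆ = ⁅y, s⁆ := by
  have := H.cu (H.iv (mul_mem hx hy) (by rw [H.sqm hx hy, e, H.e _ (H.sqU hy)])) hs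
  rw [H.cl hx hy hs] at this
  rw [eq_inv_of_mul_eq_one_left this, inv_eq_of_mul_eq_one_left (H.e _ (H.cU hy hs))]

theorem m4 : M4 T (YY T U) := m4_of H.k (YY_normal H.n) H.a (fun _ hw => H.e _ (H.sqU hw)) fun B h1 h2 h3 h4 => by
  have om := fun y => H.ne.mem_of_abel (x := y) h1 h2 ((le_YY H.n).trans h4) H.e H.c
  refine le_antisymm (fun w hw => (mem_YY H.n).2 ⟨h1.le hw, om _ (mul_mem hw hw) (h3 w hw), fun x hx => ?_⟩) h4
  have h5 : ⁅x, w⁆ ∈ B := mul_mem (h1.conj_mem hx hw) (inv_mem hw)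
  rw [← commutatorElement_inv]
  refine inv_mem (om _ h5 ?_)
  have h3 := conj_of_cent (H.z hx) (om _ (mul_mem hw hw) (h3 w hw))
  rw [conj_sq', conj_eq_comm, mul_assoc, ← mul_assoc w, h2.mul_comm hw h5, mul_assoc, ← mul_assoc] at h3
  exact mul_eq_right.1 h3

theorem ivN (hx : x ∈ T ⊓ 𝐂 (YY T U)) : x ∈ U ↔ x * x = 1 :=
  ⟨H.e x, fun i => H.iv ((H.m4).m x hx.1 hx.2 (by rw [i, mul_one])) i⟩
theorem nN : T ⊓ 𝐂 (YY T U) ⊴ T :=
  ⟨inf_le_left, norm_inf_cent (le_norm_self T) (YY_normal H.n).norm⟩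
theorem hN : h ∈ 𝐍 (T ⊓ 𝐂 (YY T U) : Subgroup G) :=
  zpowers_le.1 (norm_inf_cent (zpowers_le.2 H.hT) (zpowers_le.2 H.hY))
theorem YN : YY T U ≤ T ⊓ 𝐂 (YY T U) := le_inf (YY_le H.n) H.a
theorem abN : Abel (T ⊓ 𝐂 (YY T U)) :=
  (h3 (H.k.le inf_le_left) ((le_YY H.n).trans (H.YN)) H.c (fun _ => H.ivN) (H.hN) H.o H.f).elim id fun k =>
    H.a.mono fun x hx => (H.m4).m x hx.1 hx.2 (H.e _ (k.2.1 x hx))
theorem fixN (hx : x ∈ T ⊓ 𝐂 (YY T U)) (c : x ∈ 𝐂₁ h) : x = 1 := by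
  by_contra x1
  obtain ⟨y, hy, i⟩ := exists_iv_of_two (K := T ⊓ 𝐂 (YY T U) ⊓ 𝐂₁ h) (H.k.le (inf_le_left.trans inf_le_left))
    fun e => x1 (eq_one_of_mem_bot e ⟨hx, c⟩)
  exact i.ne_one (H.fix ((H.ivN hy.1).2 i.sq) (by rw [← mem_cent1.1 hy.2, mul_inv_cancel_right]))
theorem sqN (hx : x ∈ T) : x * x ∈ T ⊓ 𝐂 (YY T U) :=
  ⟨mul_mem hx hx, fun y hy => comm_of_eq_one (by rw [H.cr hy hx hx, H.e _ (H.cU hy hx)])⟩

theorem root (hw : w ∈ YY T U) (m : w ∉ U) (hu : u ∈ U) :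
    u = 1 ∨ u = w * w ∨ u = h * w * h⁻¹ * (h * w * h⁻¹) ∨ u = w * (h * w * h⁻¹) * (w * (h * w * h⁻¹)) := by
  rw [H.sqm hw (conj_mem_of_norm H.hY hw), ← conj_sq']
  exact H.cs (H.sqU hw) (fun e => m (H.iv hw e)) hu

theorem ext (hw : w ∈ YY T U) (m : w ∉ U) (hs : s ∈ T) (hr : r ∈ T) (e1 : ⁅w, s⁆ = ⁅w, r⁆)
    (e2 : ⁅h * w * h⁻¹, s⁆ = ⁅h * w * h⁻¹, r⁆) (hy : y ∈ YY T U) : ⁅y, s⁆ = ⁅y, r⁆ := by
  have h1 := conj_mem_of_norm H.hY hw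
  rcases H.root hw m (H.sqU hy) with e | e | e | e
  · rw [H.cu (H.iv hy e) hs, H.cu (H.iv hy e) hr]
  · rw [H.ceq hy hw e hs, H.ceq hy hw e hr, e1]
  · rw [H.ceq hy h1 e hs, H.ceq hy h1 e hr, e2]
  · rw [H.ceq hy (mul_mem hw h1) e hs, H.ceq hy (mul_mem hw h1) e hr, H.cl hw h1 hs, H.cl hw h1 hr, e1, e2]

theorem memN (hw : w ∈ YY T U) (m : w ∉ U) (hs : s ∈ T) (e1 : ⁅w, s⁆ = 1) (e2 : ⁅h * w * h⁻¹, s⁆ = 1) :
    s ∈ T ⊓ 𝐂 (YY T U) := ⟨hs, fun y hy => comm_of_eq_one (by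
  rw [H.ext hw m hs (one_mem T) (by simp [e1]) (by simp [e2]) hy]; simp)⟩

theorem idx2 (hS : Syl 2 T ⊤) (h2 : ∀ H : Subgroup G, H.index ≠ 2) (hw : w ∈ YY T U) (m : w ∉ U) :
    (T ⊓ 𝐂 (YY T U)).relIndex T ≠ 2 := fun i => by
  obtain ⟨x, hx, mx, -⟩ := relIndex_eq_two_iff_exists_notMem_and'.1 i
  obtain ⟨r, hr, c, e⟩ := fix_coset H.k (H.nN) H.hT (H.hN) H.o hx (by
    have := conj_mem_of_norm H.hT (inv_mem hx)
    rw [commutatorElement_def, mul_assoc, mul_assoc, ← mul_assoc h, mul_two i hx this]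
    exact iff_of_false mx fun e => mx (by
      simpa [mul_assoc] using inv_mem (conj_mem_of_norm (inv_mem (H.hN)) e)))
  have mr : r ∉ T ⊓ 𝐂 (YY T U) := fun f => mx ((mul_mem_cancel_left (inv_mem f)).1 e)
  have ir : Iv r := .mk' (fun e => mr (e ▸ one_mem _)) (H.fixN (H.sqN hr) (mul_mem c c))
  obtain ⟨φ, -, h1, h3⟩ := xfer (T := T ⊓ 𝐂₁ r) hS h2 i ir hr mr (H.k.le inf_le_left) ⟨hr, self_mem_cent1 r⟩
    inf_le_right
  have k : ∀ u ∈ U, φ u ∈ T := fun u hu => h3 u ⟨H.l hu, mem_cent1.2 (H.z hr u hu)⟩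
  have w1 : ⁅w, r⁆ ≠ 1 := fun e => mr (H.memN hw m hr e (by
    rw [← show h * r * h⁻¹ = r by rw [← mem_cent1.1 c, mul_inv_cancel_right], ← conj_comm, e]; simp))
  have hc : h * ⁅w, r⁆ * h⁻¹ = ⁅h * w * h⁻¹, r⁆ := by
    rw [conj_comm, ← mem_cent1.1 c, mul_inv_cancel_right]
  have w' := conj_mem_of_norm H.hY hw
  have key : ∀ x ∈ YY T U, ⁅x, r⁆ ≠ 1 → φ ⁅x, r⁆ ∉ T ⊓ 𝐂 (YY T U) := fun x hx x1 f => by
    have j := H.cU hx hr
    refine twist hS H.z H.c (φ := φ) (x := x) (FP.mk' ir (.mk' x1 (H.e _ j)) (mem_cent1.2 (H.z hr _ j))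
      fun e => mr (e ▸ H.YN (le_YY H.n j))) ((H.ivN h1).2 (by rw [← map_mul, ir.sq, map_one]))
      ((H.ivN f).2 (by rw [← map_mul, H.e _ j, map_one])) (e2_of (H.e _ (H.sqU hx))) rfl
      (comm_eq_one (H.z (YY_le H.n hx) _ j).symm)
  have F := H.fp (H.cU hw hr) w1
  rw [hc] at F
  refine key _ (mul_mem hw w') (H.cl hw w' hr ▸ F.iv.ne_one) ?_
  rw [H.cl hw w' hr, map_mul, mul_two i (k _ (H.cU hw hr)) (k _ (H.cU w' hr))]
  exact iff_of_false (key w hw w1) (key _ w' F.r.ne_one)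

theorem idem0 (hb : b ∈ T ⊓ 𝐂 (YY T U)) (m : b * b ∈ YY T U) (hx : x ∈ T) (hw : w ∈ YY T U)
    (e : w * w = ⁅b * b, x⁆) : ⁅w, x⁆ = w * w := by
  have aN := H.abN
  have h1 : ⁅b, x⁆ ∈ T ⊓ 𝐂 (YY T U) := by
    have := mul_mem hb ((H.nN).conj_mem hx (inv_mem hb))
    rwa [← mul_assoc, ← mul_assoc] at this
  have h2 : ⁅b * b, x⁆ = ⁅b, x⁆ * ⁅b, x⁆ := by rw [comm_mul_l, aN.mul_comm hb h1, mul_inv_cancel_right]
  have h3 := (H.m4).m _ h1.1 h1.2 (h2 ▸ H.e _ (H.cU m hx))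
  have h4 := comm_eq_one (aN.mul_comm hb (H.sqN hx))
  rw [comm_mul_r, conj_eq_comm, ← commutatorElement_inv _ x, inv_eq_of_mul_eq_one_left (H.e _ (H.cU h3 hx)),
    H.z (YY_le H.n h3) _ (H.cU h3 hx), ← mul_assoc] at h4
  rw [H.ceq hw h3 (e.trans h2) hx, e, h2, eq_inv_of_mul_eq_one_right h4,
    inv_eq_of_mul_eq_one_left (H.e _ (H.sqU h3))]

theorem idem (hb : b ∈ T ⊓ 𝐂 (YY T U)) (m : b * b ∈ YY T U) (m' : b * b ∉ U) (hx : x ∈ T) (hy : y ∈ YY T U)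
    (hw : w ∈ YY T U) (e : w * w = ⁅y, x⁆) : ⁅w, x⁆ = w * w := by
  have h1 := conj_mem_of_norm H.hN hb
  have h2 := conj_mem_of_norm H.hY m
  rcases H.root m m' (H.sqU hy) with f | f | f | f
  · rw [H.cu (H.iv hy f) hx] at e
    rw [e, H.cu (H.iv hw e) hx]
  · exact H.idem0 hb m hx hw (e.trans (H.ceq hy m f hx))
  · exact H.idem0 h1 (conj_sq' h b ▸ h2) hx hw (conj_sq' h b ▸ e.trans (H.ceq hy h2 f hx))
  · have k : b * (h * b * h⁻¹) * (b * (h * b * h⁻¹)) = b * b * (h * (b * b) * h⁻¹) := by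
      rw [sq_mul, comm_eq_one (H.abN.mul_comm h1 hb), mul_one, mul_inv_cancel, one_mul, conj_sq']
    exact H.idem0 (mul_mem hb h1) (k ▸ mul_mem m h2) hx hw (k ▸ e.trans (H.ceq hy (mul_mem m h2) f hx))

theorem exists_root (hw : w ∈ YY T U) (m : w ∉ U) (hu : u ∈ U) : ∃ y ∈ YY T U, y * y = u := by
  have h1 := conj_mem_of_norm H.hY hw
  rcases H.root hw m hu with e | e | e | e
  exacts [⟨1, one_mem _, by rw [e, mul_one]⟩, ⟨_, hw, e.symm⟩, ⟨_, h1, e.symm⟩, ⟨_, mul_mem hw h1, e.symm⟩]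

theorem inv (I : ∀ x ∈ T, ∀ y ∈ YY T U, ∀ w ∈ YY T U, w * w = ⁅y, x⁆ → ⁅w, x⁆ = w * w) (hx : x ∈ T)
    (m : x ∉ T ⊓ 𝐂 (YY T U)) (hw : w ∈ YY T U) : ⁅w, x⁆ = w * w := by
  by_contra f
  have mw : w ∉ U := fun k => f (by rw [H.cu k hx, H.e w k])
  obtain ⟨c, hc, e⟩ := H.exists_root hw mw (H.cU hw hx)
  obtain ⟨k, hk, k1, mk⟩ : ∃ k ∈ YY T U, ⁅k, x⁆ = 1 ∧ k ∉ U := ⟨w * c, mul_mem hw hc, by
    rw [H.cl hw hc hx, I x hx w hw c hc e, e, H.e _ (H.cU hw hx)], fun j => f (by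
      have := H.e _ j
      rw [H.sqm hw hc, e] at this
      rw [eq_inv_of_mul_eq_one_right this, inv_eq_of_mul_eq_one_left (H.e _ (H.sqU hw))])⟩
  have k2 := conj_mem_of_norm H.hY hk
  have a1 : k * k ≠ 1 := fun j => mk (H.iv hk j)
  have F := H.fp (H.sqU hk) a1
  have hy := conj_mem_of_norm H.hT hx
  have y1 : ⁅h * k * h⁻¹, h * x * h⁻¹⁆ = 1 := by rw [← conj_comm, k1]; simp
  have s3 : k * (h * k * h⁻¹) * (k * (h * k * h⁻¹)) = k * k * (h * (k * k) * h⁻¹) := by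
    rw [H.sqm hk k2, conj_sq']
  have y2 : ⁅k, h * x * h⁻¹⁆ = h * ⁅h * k * h⁻¹, x⁆ * h⁻¹ := by
    rw [conj_comm, H.ceq (conj_mem_of_norm H.hY k2) (mul_mem hk k2) (by
      rw [← conj_sq', ← conj_sq', H.rho (H.sqU hk) a1, s3]) hy, H.cl hk k2 hy, y1, mul_one]
  have hz := mul_mem hx hy
  have z1 := H.cr hk hx hy
  have z2 := H.cr k2 hx hy
  have z3 := H.cl hk k2 hz
  have J := fun y hy => I _ hz y hy _ (mul_mem hk k2)
  rw [k1, one_mul, y2] at z1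
  rw [y1, mul_one] at z2
  rw [s3, z3, z1, z2] at J
  rcases H.cs (H.sqU hk) a1 (H.cU k2 hx) with j | j | j | j
  · exact m (H.memN hk mk hx k1 j)
  · exact a1 ((I x hx _ k2 k hk j.symm).symm.trans k1)
  · have := J k hk (by rw [z1, j, H.rho (H.sqU hk) a1])
    rw [j, H.rho (H.sqU hk) a1] at this
    exact F.r.ne_one (mul_eq_left.1 this)
  · have := J _ k2 (by rw [z2, j])
    rw [j] at this
    exact (F.iv.conj h).ne_one (mul_eq_right.1 this)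

theorem card (hw : w ∈ YY T U) (m : w ∉ U) : ♯(YY T U) = 16 := by
  have h1 := relIndex_sqs (V := U) H.a fun p => ⟨fun hp => ⟨le_YY H.n hp, H.e p hp⟩, fun hp => H.iv hp.1 hp.2⟩
  have h2 : sqs (YY T U) = U := by
    ext u
    rw [mem_sqs H.a]
    exact ⟨fun ⟨p, hp, e⟩ => e ▸ H.sqU hp, H.exists_root hw m⟩
  rw [h2] at h1
  rw [← card_mul_relIndex (le_YY H.n), h1, H.c]

theorem big (hw : w ∈ YY T U) (m : w ∉ U) (l : T ⊓ 𝐂 (YY T U) ≤ YY T U) : (T ⊓ 𝐂 (YY T U)).relIndex T ∣ 8 := by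
  have w2 := conj_mem_of_norm H.hY hw
  let f : T →* G × G := MonoidHom.mk' (fun s => (⁅w, (s : G)⁆, ⁅h * w * h⁻¹, (s : G)⁆)) fun s r =>
    Prod.ext (H.cr hw s.2 r.2) (H.cr w2 s.2 r.2)
  have h1 : f.ker = (T ⊓ 𝐂 (YY T U)).subgroupOf T := by
    ext s
    exact ⟨fun e => H.memN hw m s.2 (congrArg Prod.fst e) (congrArg Prod.snd e), fun e =>
      Prod.ext (comm_eq_one (e.2 w hw)) (comm_eq_one (e.2 _ w2))⟩
  have h2 : f.range ≤ U.prod U := by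
    rintro _ ⟨s, rfl⟩
    exact ⟨H.cU hw s.2, H.cU w2 s.2⟩
  have h3 : ♯(U.prod U) = 2 ^ 4 := by rw [Nat.card_congr (U.prodEquiv U).toEquiv, Nat.card_prod, H.c]; rfl
  have h4 : (T ⊓ 𝐂 (YY T U)).relIndex T = ♯f.range := by rw [relIndex, ← h1, index_ker]
  obtain ⟨i, hi, h5⟩ := (Nat.dvd_prime_pow Nat.prime_two).1 (h3 ▸ card_dvd_of_le h2)
  rw [h4, h5]
  refine pow_dvd_pow 2 (show i ≤ 3 from not_lt.1 fun j => ?_)
  have a1 : w * w ≠ 1 := fun j => m (H.iv hw j)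
  have hU := fun u => conj_mem_of_norm (x := u) H.hU
  obtain ⟨⟨x, hx⟩, e⟩ := (eq_of_card_le h2 (by rw [h3, h5, show i = 4 by omega])).ge
    (show (_, _) ∈ U.prod U from ⟨hU _ (H.sqU hw), hU _ (H.sqU w2)⟩)
  have e1 : ⁅w, x⁆ = h * (w * w) * h⁻¹ := congrArg Prod.fst e
  have e2 : ⁅h * w * h⁻¹, x⁆ = h * (h * w * h⁻¹ * (h * w * h⁻¹)) * h⁻¹ := congrArg Prod.snd e
  have k : ∀ y ∈ YY T U, ⁅y, x⁆ = h * (y * y) * h⁻¹ := fun y hy => by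
    rcases H.root hw m (H.sqU hy) with j | j | j | j
    · rw [H.cu (H.iv hy j) hx, j, mul_one, mul_inv_cancel]
    · rw [H.ceq hy hw j hx, j, e1]
    · rw [H.ceq hy w2 j hx, j, e2]
    · rw [H.ceq hy (mul_mem hw w2) j hx, j, H.cl hw w2 hx, H.sqm hw w2, conj_mul', e1, e2]
  have hy := conj_mem_of_norm H.hT (inv_mem hx)
  obtain ⟨r, hr, c, e⟩ := fix_coset H.k H.nN H.hT H.hN H.o hx (by
    rw [commutatorElement_def, mul_assoc, mul_assoc, ← mul_assoc h]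
    refine ⟨mul_mem hx hy, fun y hy' => comm_of_eq_one ?_⟩
    have y' := conj_mem_of_norm (inv_mem H.hY) hy'
    have := H.cr y' hx (inv_mem hx)
    rw [mul_inv_cancel, commutatorElement_one_right] at this
    rw [H.cr hy' hx hy, k y hy', show ⁅y, h * x⁻¹ * h⁻¹⁆ = h * ⁅h⁻¹ * y * h⁻¹⁻¹, x⁻¹⁆ * h⁻¹ by
      rw [conj_comm]; congr 1; group, eq_inv_of_mul_eq_one_right this.symm, k _ y',
      show h * (y * y) * h⁻¹ * (h * (h * (h⁻¹ * y * h⁻¹⁻¹ * (h⁻¹ * y * h⁻¹⁻¹)) * h⁻¹)⁻¹ * h⁻¹) = 1 by group])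
  have k' : ∀ y ∈ YY T U, ⁅y, r⁆ = h * (y * y) * h⁻¹ := fun y hy => by
    rw [← k y hy, ← mul_inv_cancel_left r x, H.cr hy hr e.1, comm_eq_one (e.2 y hy), mul_one]
  have ir := H.fixN (H.sqN hr) (mul_mem c c)
  have hr' : r ∈ YY T U := (mem_YY H.n).2 ⟨hr, ir ▸ one_mem U, fun s hs => by
    have h7 : ⁅s, r⁆ ∈ T := mul_mem (mul_mem (mul_mem hs hr) (inv_mem hs)) (inv_mem hr)
    have h6 : ⁅s, r⁆ ∈ YY T U := l ⟨h7, fun y hy => by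
      have := H.cr hy h7 (mul_mem hr hs)
      rw [show ⁅s, r⁆ * (r * s) = s * r by simp only [commutatorElement_def]; group, H.cr hy hs hr,
        H.cr hy hr hs, H.ab.mul_comm (H.cU hy hs) (H.cU hy hr)] at this
      exact comm_of_eq_one (mul_eq_right.1 this.symm)⟩
    have h8 := CF.IC.conj_sq ir s
    rw [conj_eq_comm, sq_mul, ir, mul_one, ← commutatorElement_inv _ r,
      inv_eq_of_mul_eq_one_left (H.e _ (H.cU h6 hr)), conj_of_cent (H.z (YY_le H.n h6)) (H.cU h6 hr), k' _ h6] at h8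
    rw [← commutatorElement_inv]
    exact inv_mem (H.iv h6 (H.fix (H.sqU h6) (by
      rw [eq_inv_of_mul_eq_one_left h8, inv_eq_of_mul_eq_one_left (H.e _ (H.sqU h6))])))⟩
  exact absurd ((k' w hw).symm.trans (comm_eq_one (H.a.mul_comm hw hr'))) (conj_ne_one a1 h)

end CB

theorem CA.main (H : CA T U h) (n : NS (⊤ : Subgroup G)) (hS : Syl 2 T ⊤) : ♯T = 4 ∨ ♯T = 64 ∨ ♯T = 128 := by
  rcases h3 (H.k.le (YY_le H.n)) (le_YY H.n) H.c (fun x hx => ⟨H.e x, H.iv hx⟩) H.hY H.o H.f with a | ⟨c, -, e⟩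
  swap
  · exact .inr (.inl (le_antisymm (le_YY_of H.k H.l H.z H.e e) (YY_le H.n) ▸ c))
  by_cases l : YY T U ≤ U
  · exact .inl (le_antisymm ((le_YY_of H.k H.l H.z H.e (inf_le_left.trans l)).trans l) H.l ▸ H.c)
  obtain ⟨w, hw, m⟩ := SetLike.not_le_iff_exists.1 l
  have B : CB T U h := ⟨H, a⟩
  have i2 := B.idx2 hS n.index_ne hw m
  by_cases i1 : T ≤ T ⊓ 𝐂 (YY T U)
  · refine .inl (four_of_rank2 n hS (B.abN.mono i1) ((card_le (Om_le_iff.2 fun x hx e =>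
      (B.ivN (i1 hx)).2 (by rwa [← pow_two]))).trans_lt (by rw [H.c]; omega)))
  by_cases l' : T ⊓ 𝐂 (YY T U) ≤ YY T U
  · have := card_mul_relIndex (H := T ⊓ 𝐂 (YY T U)) (K := T) inf_le_left
    have d := B.big hw m l'
    have i1' := mt relIndex_eq_one.1 i1
    rw [show ♯(T ⊓ 𝐂 (YY T U) : Subgroup G) = 16 by rw [le_antisymm l' B.YN, B.card hw m]] at this
    have := (Nat.mem_divisors.2 ⟨d, by omega⟩ : _ ∈ Nat.divisors 8)
    simp only [show Nat.divisors 8 = {1, 2, 4, 8} by decide, Finset.mem_insert, Finset.mem_singleton] at this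
    omega
  obtain ⟨b, hb, mb, hb'⟩ := exists_lift H.k B.nN (YY_normal H.n) B.YN l'
  have h1 := ((mem_YY (YY_normal H.n)).1 hb').2.1
  have I := fun x hx => B.inv (x := x) (w := w) (fun x hx y hy w hw => B.idem hb h1
    (fun f => mb (B.m4.m b hb.1 hb.2 (H.e _ f))) hx hy hw) hx
  have I' := fun x hx => B.inv (x := x) (w := h * w * h⁻¹) (fun x hx y hy w hw => B.idem hb h1
    (fun f => mb (B.m4.m b hb.1 hb.2 (H.e _ f))) hx hy hw) hx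
  have w2 := conj_mem_of_norm H.hY hw
  obtain ⟨x, hx, mx⟩ := SetLike.not_le_iff_exists.1 i1
  refine absurd (relIndex_eq_two_iff_exists_notMem_and'.2 ⟨x, hx, mx, fun y hy => or_iff_not_imp_right.2 fun my =>
    B.memN hw m (mul_mem hx hy) ?_ ?_⟩) i2
  · rw [H.cr hw hx hy, I x hx mx hw, I y hy my hw, H.e _ (H.sqU hw)]
  · rw [H.cr w2 hx hy, I' x hx mx w2, I' y hy my w2, H.e _ (H.sqU w2)]

end CF.MW
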