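/-
Sylow two-subgroups without normal elementary abelian subgroups of order eight: no fusion in the centre.
-/
import Cfsg.Agent.MW.B
set_option autoImplicit false
set_option linter.unusedSectionVars false

namespace CF.MW
open Subgroup Cfsg CF.BG CF.Sig CF.GW CF.Ab2
open CF.Pgp (relIndex_cent1_le)
open scoped commutatorElement

variable {G : Type*} [Group G] [Finite G]
variable {A B C D E K L M N P Q S T U V W X Y Z : Subgroup G} {a b c d g h k p r s t u v w x y z : G} {φ : G ≃* G}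

structure FZ (T : Subgroup G) (z t : G) (φ : G ≃* G) : Prop where
  ht : t ∈ T
  it : Iv t
  e : φ t = z
  nc : t ∉ 𝐂 T
  m : ∀ x ∈ T, x ∈ 𝐂₁ t → φ x ∈ T
  fx : ∀ w ∈ 𝐂 T, w ∈ T → w * w = 1 → φ w ∈ 𝐂 T → φ w = w

def ZF (T : Subgroup G) : Prop := ∀ z ∈ T, z ∈ 𝐂 T → Iv z → ∃ t φ, FZ T z t φ

theorem zf (n : NS (⊤ : Subgroup G)) (hS : Syl 2 T ⊤)
    (hN : ∀ g ∈ 𝐍 T, ∀ z ∈ T, z ∈ 𝐂 T → z * z = 1 → g * z * g⁻¹ = z) : ZF T := fun z hz c i => by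
  have key : ∀ g, ∀ w ∈ 𝐂 T, w ∈ T → w * w = 1 → g * w * g⁻¹ ∈ 𝐂 T → g * w * g⁻¹ = w := fun g w c hw e m => by
    obtain ⟨k, hk, f⟩ := burnside_fusion hS c (mem_top g) m
    rw [← f, hN k hk.2 w hw c e]
  obtain ⟨g, -, h1, h2⟩ := n.exists_conj hS hz i.ne_one
  obtain ⟨φ, ⟨k, hk⟩, h3, h4⟩ := CF.DD.ext (P := T ⊓ 𝐂₁ (g * z * g⁻¹)) hS (le_cent1_iff.2 c)
    (isConj_iff.2 ⟨g, rfl⟩).symm (hS.pi.le inf_le_left) inf_le_right
  exact ⟨_, φ, h1, i.conj g, h3, fun e => h2 (key g z c hz i.sq e), fun x hx e => h4 x ⟨hx, e⟩,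
    fun w c hw e m => by rw [hk] at m ⊢; exact key k w c hw e m⟩

theorem FZ.ne (F : FZ T z t φ) (c : z ∈ 𝐂 T) : φ z ≠ z := fun e => F.nc (φ.injective (e.trans F.e.symm) ▸ c)

theorem ZF.isol (Z : ZF T) (hz : z ∈ T) (c : z ∈ 𝐂 T) (i : Iv z)
    (h1 : ∀ t ∈ T, Iv t → ∃ y ∈ T, y ∈ 𝐂₁ t ∧ y * y = z) (h2 : ∀ s ∈ T, s * s * (s * s) = 1 → s * s ∈ 𝐂 T) :
    False := by
  obtain ⟨t, φ, F⟩ := Z z hz c i
  obtain ⟨y, hy, e, rfl⟩ := h1 t F.ht F.it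
  refine F.ne c (F.fx _ c hz i.sq ?_)
  rw [map_mul]
  exact h2 _ (F.m y hy e) (by rw [← map_mul, ← map_mul, i.sq, map_one])

theorem cl (n : U ⊴ T) (hy : y ∈ YY T U) (c : x ∈ 𝐂 U) (hs : s ∈ T) : ⁅x * y, s⁆ = ⁅y, s⁆ * ⁅x, s⁆ := by
  rw [comm_mul_l, conj_of_cent c (((mem_YY n).1 hy).2.2 s hs)]
theorem c1_of (e : ⁅x, t⁆ = 1) : x ∈ 𝐂₁ t := mem_cent1.2 (comm_of_eq_one e)
theorem card_inf_le (Z : Subgroup G) (k : ∀ q ∈ Q, ⁅q, x⁆ ∈ Z) : ♯Q ≤ ♯(Q ⊓ 𝐂₁ x : Subgroup G) * ♯Z := by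
  rw [← card_inf_mul_relIndex (𝐂₁ x) Q, inf_comm]
  exact Nat.mul_le_mul_left _ (relIndex_cent1_le k)

structure YS (T U Y : Subgroup G) (h : G) : Prop where
  k : P2 T
  ne : NE T
  n : U ⊴ T
  e : ∀ u ∈ U, u * u = 1
  l : U ≤ Y
  l' : Y ≤ YY T U
  c : Y ≤ 𝐂 U
  sq : ∀ y ∈ Y, y * y ∈ 𝐂 T
  hT : h ∈ 𝐍 T
  hY : h ∈ 𝐍 Y
  hU : h ∈ 𝐂 U
  o : Eo h
  f : ∃ y ∈ Y, ⁅h, y⁆ ∉ U
  zU : ∀ z ∈ T, z ∈ 𝐂 T → z * z = 1 → z ∈ U
  Z : ZF T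

namespace YS
variable (H : YS T U Y h)
include H

theorem sqU (hx : x ∈ YY T U) : x * x ∈ U := ((mem_YY H.n).1 hx).2.1
theorem cU (hx : x ∈ YY T U) (hs : s ∈ T) : ⁅x, s⁆ ∈ U := ((mem_YY H.n).1 hx).2.2 s hs

theorem pl (zT : T ≤ 𝐂 U) (c : ♯(YY T U) ≤ 8 * ♯U) :
    ∃ x ∈ YY T U, ∃ y ∈ YY T U, x ∉ U ∧ y ∉ U ∧ x * y ∉ U ∧ y * y = x * x ∧ x * y * (x * y) = x * x :=
  plane2 (le_YY H.n) ((YY_le H.n).trans zT) H.e (fun _ => H.sqU) c H.hU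
    (norm_YY H.n H.hT (cent_le_norm U H.hU)) H.o (H.f.imp fun _ k => ⟨H.l' k.1, k.2⟩)

section B1
variable (hS : Syl 2 T ⊤) (zT : T ≤ 𝐂 U) (c4 : ♯U = 4) (hz : z ∈ U) (F : FZ T z t φ)
include hS zT c4 hz F

theorem s1 (hx : x ∈ YY T U) (c : x ∈ 𝐂₁ t) (m : x ∉ U) : φ (x * x) = x * x ∧ x * x ≠ z ∧ x * x ≠ 1 := by
  have h1 := H.sqU hx
  have h2 : φ (x * x) = x * x := F.fx _ (cent_symm zT h1) (H.n.le h1) (H.e _ h1) (cent_symm zT (by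
    rw [map_mul]
    exact H.ne.sq_mem H.k H.n.le zT H.e c4 (F.m x (YY_le H.n hx) c) (by
      rw [← map_mul, ← map_mul, H.e _ h1, map_one])))
  exact ⟨h2, fun e => F.ne (cent_symm zT hz) (e ▸ h2),
    fun e => m (H.ne.iv_mem H.n H.e c4 hx e (zT (YY_le H.n hx)))⟩

theorem s2 (hx : x ∈ YY T U) (c : x ∈ 𝐂₁ t) (m : x ∉ U) (hy : y ∈ YY T U) : ⁅y, t⁆ ≠ x * x := fun e => by
  obtain ⟨h1, -, h3⟩ := H.s1 hS zT c4 hz F hx c m
  have h4 := H.sqU hx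
  exact twist hS zT c4 (φ := φ) (FP.mk' F.it (.mk' h3 (H.e _ h4)) (mul_mem c c) fun j =>
    F.nc (j ▸ cent_symm zT h4)) (F.e ▸ hz) (h1.symm ▸ h4) (e2_of (H.e _ (H.sqU hy))) e
    (comm_eq_one (zT (YY_le H.n hy) _ h4).symm)

theorem s4 : ♯(YY T U) ≤ 32 := by
  by_cases l : YY T U ⊓ 𝐂₁ t ≤ U
  · have := card_inf_le U fun q hq => H.cU hq F.ht
    have := card_le l
    nlinarith
  obtain ⟨x, hx, m⟩ := SetLike.not_le_iff_exists.1 l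
  obtain ⟨h1, -, h3⟩ := H.s1 hS zT c4 hz F hx.1 hx.2 m
  have h4 := H.sqU hx.1
  have h5 := sv (P := YY T U ⊓ 𝐂₁ t) H.n (inf_le_left.trans ((YY_le H.n).trans zT)) inf_le_left
    (.mk' h3 (H.e _ h4)) fun y hy my => by
      by_contra j
      obtain ⟨k1, k2, k3⟩ := H.s1 hS zT c4 hz F hy.1 hy.2 my
      have f := fp_of H.e (H.sqU hy.1) h4 k3 h3 j
      refine F.ne (cent_symm zT hz) ?_
      rcases f.mem.1 (v4_eq c4 f (H.sqU hy.1) h4 ▸ hz) with e | e | e | e <;> rw [e]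
      exacts [map_one φ, k1, h1, by rw [map_mul, k1, h1]]
  by_cases j : ∀ q ∈ YY T U, ⁅q, t⁆ = 1
  · have := card_inf_le (x := t) ⊥ j
    rw [card_bot] at this
    omega
  push Not at j
  obtain ⟨p, hp, p1⟩ := j
  have f := fp_of H.e (H.cU hp F.ht) h4 p1 h3 (H.s2 hS zT c4 hz F hx.1 hx.2 m hp)
  have := card_inf_le (Q := YY T U) (x := t) (zpowers ⁅p, t⁆) fun q hq => by
    rcases f.mem.1 (v4_eq c4 f (H.cU hp F.ht) h4 ▸ H.cU hq F.ht) with e | e | e | e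
    · exact e ▸ one_mem _
    · exact e ▸ mem_zpowers _
    · exact absurd e (H.s2 hS zT c4 hz F hx.1 hx.2 m hq)
    · refine absurd ?_ (H.s2 hS zT c4 hz F hx.1 hx.2 m (mul_mem hq hp))
      rw [cl H.n hp (zT (YY_le H.n hq)) F.ht, e, f.mul_mul]
  rw [f.l.card] at this
  omega

end B1

theorem b1 (hS : Syl 2 T ⊤) (zT : T ≤ 𝐂 U) (c4 : ♯U = 4) : False := by
  have k : ∀ z ∈ U, z ≠ 1 → ∃ t φ, FZ T z t φ := fun z hz z1 =>
    H.Z z (H.n.le hz) (cent_symm zT hz) (.mk' z1 (H.e z hz))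
  obtain ⟨u, hu, u1⟩ := exists_mem_ne_one (H := U) (one_lt_card.1 (by omega))
  obtain ⟨t0, φ0, F0⟩ := k u hu u1
  obtain ⟨x, hx, y, hy, mx, my, mxy, e1, e2⟩ := H.pl zT (c4 ▸ H.s4 hS zT c4 hu F0)
  have hz := H.sqU hx
  have iv : ∀ x ∈ YY T U, x * x = 1 → x ∈ U := fun x hx e => H.ne.iv_mem H.n H.e c4 hx e (zT (YY_le H.n hx))
  have z1 : x * x ≠ 1 := fun e => mx (iv x hx e)
  obtain ⟨t, φ, F⟩ := k _ hz z1
  have c := fun a (ha : a ∈ YY T U) => zT (YY_le H.n ha)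
  have n1 : ∀ a ∈ YY T U, a ∉ U → a * a = x * x → ⁅a, t⁆ ≠ 1 := fun a ha m e j =>
    (H.s1 hS zT c4 hz F ha (c1_of j) m).2.1 e
  have h3 := cl H.n hy (c x hx) F.ht
  have f := fp_of H.e (H.cU hy F.ht) (H.cU hx F.ht) (n1 y hy my e1) (n1 x hx mx rfl) fun j =>
    n1 _ (mul_mem hx hy) mxy e2 (by rw [h3, j, H.e _ (H.cU hx F.ht)])
  have cs := fun u (hu : u ∈ U) => f.mem.1 (v4_eq c4 f (H.cU hy F.ht) (H.cU hx F.ht) ▸ hu)
  have P : ∀ p ∈ YY T U, ⁅p, t⁆ = 1 → p ∈ U := fun p hp j => by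
    by_contra m
    rcases cs _ (H.sqU hp) with e | e | e | e
    · exact m (iv p hp e)
    · exact H.s2 hS zT c4 hz F hp (c1_of j) m hy e.symm
    · exact H.s2 hS zT c4 hz F hp (c1_of j) m hx e.symm
    · exact H.s2 hS zT c4 hz F hp (c1_of j) m (mul_mem hx hy) (h3.trans e.symm)
  have nc : y * x ≠ x * y := fun j => z1 (by
    rw [← e2, comm_of_sq (c x hx) (H.cU hy (YY_le H.n hx)) (H.e _ hz) rfl e1, comm_eq_one j])
  refine F.nc (cent_symm zT (iv t (le_YY_of H.k H.n.le zT H.e (fun v hv => ?_) F.ht) F.it.sq))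
  have q : ∀ a ∈ YY T U, ⁅v, t⁆ = ⁅a, t⁆ → a ∈ 𝐂 (YY T U) := fun a ha j => (mul_mem_cancel_right (mem_inf.1 hv).2).1
    (cent_symm c (P _ (mul_mem ha hv.1) (by rw [cl H.n hv.1 (c a ha) F.ht, j, H.e _ (H.cU ha F.ht)])))
  rcases cs _ (H.cU hv.1 F.ht) with e | e | e | e
  · exact P v hv.1 e
  · exact absurd (q y hy e x hx).symm nc
  · exact absurd (q x hx e y hy) nc
  · have := q _ (mul_mem hx hy) (e.trans h3.symm) x hx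
    rw [mul_assoc] at this
    exact absurd (mul_left_cancel this).symm nc

theorem b2 (zT : ¬ T ≤ 𝐂 U) (c4 : ♯U = 4) : ♯T = 64 ∨ ♯T = 128 := by
  have YT := H.l'.trans (YY_le H.n)
  have one : ∀ a ∈ U, ∀ b ∈ U, a ∈ 𝐂 T → b ∈ 𝐂 T → a ≠ 1 → b ≠ 1 → a = b := fun a ha b hb ca cb a1 b1 => by
    by_contra j
    exact zT (cent_symm (v4_eq c4 (fp_of H.e ha hb a1 b1 j) ha hb ▸ sup_le (zpowers_le.2 ca) (zpowers_le.2 cb)))
  have iv : ∀ x ∈ YY T U, x ∈ 𝐂 U → x * x = 1 → x ∈ U := fun x hx c e => H.ne.iv_mem H.n H.e c4 hx e c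
  obtain ⟨y0, h0, m0⟩ := H.f
  have m1 : y0 ∉ U := fun j => m0 (by rw [comm_eq_one (H.hU _ j).symm]; exact one_mem _)
  have s1 : ∀ y ∈ Y, y ∉ U → y * y ≠ 1 := fun y hy m e => m (iv y (H.l' hy) (H.c hy) e)
  obtain ⟨z, hz⟩ : ∃ z, z = y0 * y0 := ⟨_, rfl⟩
  have zU := hz ▸ H.sqU (H.l' h0)
  have zc := hz ▸ H.sq _ h0
  have iz : Iv z := .mk' (hz ▸ s1 _ h0 m1) (H.e z zU)
  have q : ∀ y ∈ Y, y ∉ U → y * y = z := fun y hy m =>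
    one _ (H.sqU (H.l' hy)) _ zU (H.sq y hy) zc (s1 y hy m) iz.ne_one
  have c1 := sv H.n H.c H.l' iz q
  obtain ⟨x, hx, y, hy, mx, my, mxy, -⟩ := plane2 H.l H.c H.e (fun _ hy => H.sqU (H.l' hy)) (by omega) H.hU H.hY
    H.o H.f
  have c2 := card_two H.n (H.l' hx) (H.l' hy) mx my mxy
  have hY : U ⊔ zpowers x ⊔ zpowers y = Y :=
    eq_of_card_le (sup_le (sup_le H.l (zpowers_le.2 hx)) (zpowers_le.2 hy)) (by omega)
  have nc : y * x ≠ x * y := fun j => iz.ne_one (by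
    rw [← q _ (mul_mem hx hy) mxy, comm_of_sq (H.c hx) (H.cU (H.l' hy) (YT hx)) iz.sq (q x hx mx) (q y hy my),
      comm_eq_one j])
  have nY : Y ⊴ T := normal_of_comm H.l YT fun _ hx _ => H.cU (H.l' hx)
  have K : T ⊓ 𝐂 Y ≤ U := by
    by_contra f
    obtain ⟨v, hv, m, hY⟩ := exists_lift H.k ⟨inf_le_left, norm_inf_cent (le_norm_self T) nY.norm⟩ H.n
      (le_inf H.n.le (cent_symm H.c)) f
    have cv : v ∈ 𝐂 U := cent_anti H.l hv.2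
    have h1 : v * v = z := one _ (H.sqU hY) _ zU (fun s hs => by
      have : ⁅s, v⁆ ∈ U := by rw [← commutatorElement_inv]; exact inv_mem (H.cU hY hs)
      rw [← mul_inv_eq_iff_eq_mul, conj_sq', conj_eq_comm, cv _ this, sq_mul_cent cv H.e this]) zc
      (fun e => m (iv v hY cv e)) iz.ne_one
    have h2 := iv _ (mul_mem (H.l' hx) hY) (mul_mem (H.c hx) cv) (by
      rw [mul_assoc, ← mul_assoc v, ← hv.2 x hx, mul_assoc, ← mul_assoc, q x hx mx, h1, iz.sq])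
    exact nc ((mul_mem_cancel_right (mem_inf.1 hv).2).1 (cent_symm H.c h2) y hy)
  obtain ⟨s0, hs0, ms0⟩ := SetLike.not_le_iff_exists.1 zT
  have i2 := CF.IC.two_of_dvd ((elem_of_card (n := 2) p2 H.n.le (CF.ZD.abelem_of_sq H.e) c4).relIndex_cent_dvd_two
    H.k H.n.norm) hs0 ms0
  have c3 := card_inf_mul_relIndex (𝐂 U) T
  have c5 := card_inf_le (Q := 𝐂 U ⊓ T) (x := x) U fun s hs => by
    rw [← commutatorElement_inv]; exact inv_mem (H.cU (H.l' hx) hs.2)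
  have c6 := card_inf_le (Q := 𝐂 U ⊓ T ⊓ 𝐂₁ x) (x := y) U fun s hs => by
    rw [← commutatorElement_inv]; exact inv_mem (H.cU (H.l' hy) hs.1.2)
  have c7 : ♯(𝐂 U ⊓ T ⊓ 𝐂₁ x ⊓ 𝐂₁ y : Subgroup G) ≤ ♯U := card_le fun s hs => K ⟨hs.1.1.2, by
    rw [← hY]
    exact cent_symm (sup_le (sup_le (cent_symm (zpowers_le.2 hs.1.1.1)) (zpowers_le.2 (cent_symm
      (zpowers_le.2 (cent_zpowers x ▸ hs.1.2)) (mem_zpowers x)))) (zpowers_le.2 (cent_symm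
      (zpowers_le.2 (cent_zpowers y ▸ hs.2)) (mem_zpowers y)))) (mem_zpowers s)⟩
  have l0 : Y ≤ 𝐂 U ⊓ T := le_inf H.c YT
  have c8 := card_le l0
  have c9 : ♯(𝐂 U ⊓ T : Subgroup G) ≠ 16 := fun e => by
    have e0 := eq_of_card_le l0 (by rw [e, ← hY, c2, c4])
    have cen : ∀ s ∈ T, s ∉ 𝐂 U → ∀ a ∈ U, a ∈ 𝐂₁ s → a ∈ 𝐂 T := fun s hs m a ha c r hr => by
      by_cases j : r ∈ 𝐂 U
      · exact (j a ha).symm
      · exact mem_cent1.1 ((mul_mem_cancel_right (mem_cent1_comm.1 c)).1 (cent_le_cent1 ha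
          ((CF.IC.mul_two i2 hr hs).2 (iff_of_false j m))))
    refine H.Z.isol (H.n.le zU) zc iz (fun t ht it => ?_) fun s hs e => ?_
    · by_cases j : t ∈ 𝐂 U
      · have := e0.ge ⟨j, ht⟩
        exact ⟨x, YT hx, cent_le_cent1 (iv t (H.l' this) j it.sq) (H.c hx), q x hx mx⟩
      have w : ∀ a ∈ Y, ⁅a, t⁆ ≠ 1 → ⁅a, t⁆ = z := fun a ha a1 => by
        have h1 := H.cU (H.l' ha) ht
        refine one _ h1 _ zU (cen t ht j _ h1 (mem_cent1_comm.1 (mem_cent1.2 ?_))) zc a1 iz.ne_one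
        have := comm_mul_r a t t
        rw [it.sq, commutatorElement_one_right] at this
        rw [← mul_inv_eq_iff_eq_mul, eq_inv_of_mul_eq_one_right this.symm, inv_eq_of_mul_eq_one_left (H.e _ h1)]
      by_cases j1 : ⁅x, t⁆ = 1
      · exact ⟨x, YT hx, c1_of j1, q x hx mx⟩
      by_cases j2 : ⁅y, t⁆ = 1
      · exact ⟨y, YT hy, c1_of j2, q y hy my⟩
      exact ⟨_, YT (mul_mem hx hy), c1_of (by rw [cl H.n (H.l' hy) (H.c hx) ht, w x hx j1, w y hy j2, iz.sq]),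
        q _ (mul_mem hx hy) mxy⟩
    · by_cases j : s ∈ 𝐂 U
      · exact H.sq s (e0.ge ⟨j, hs⟩)
      have h1 := (CF.IC.mul_two i2 hs hs).2 Iff.rfl
      exact cen s hs j _ (iv _ (H.l' (e0.ge ⟨h1, mul_mem hs hs⟩)) h1 e) (mul_mem (self_mem_cent1 s) (self_mem_cent1 s))
  obtain ⟨i, hi⟩ := (H.k.le (inf_le_right : 𝐂 U ⊓ T ≤ T)).card_pow
  rw [← hY, c2] at c8
  rw [← c3, i2]
  rw [c4] at c5 c6 c7 c8
  have : i ≤ 6 := (Nat.pow_le_pow_iff_right one_lt_two).1 (by omega)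
  interval_cases i <;> omega

end YS
end CF.MW
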