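/-
MacWilliams' theorem on Sylow two-subgroups without normal elementary abelian subgroups of order eight.
-/
import Cfsg.Agent.MW.C
import Cfsg.Agent.Transfer.Frat
set_option autoImplicit false
set_option linter.unusedSectionVars false

namespace CF.MW
open Subgroup Cfsg CF.BG CF.Sig CF.GW CF.Ab2
open scoped commutatorElement

variable {G : Type*} [Group G] [Finite G]
variable {A B C D E K L M N P Q S T U V W X Y Z : Subgroup G} {a b c d g h k p r s t u v w x y z : G}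

theorem YY_mono (n : U ⊴ T) (m : V ⊴ T) (l : U ≤ V) : YY T U ≤ YY T V := fun _ hy =>
  (mem_YY m).2 ⟨YY_le n hy, l ((mem_YY n).1 hy).2.1, fun s hs => l (((mem_YY n).1 hy).2.2 s hs)⟩
theorem comm_mem (hx : x ∈ K) (hy : y ∈ K) : ⁅x, y⁆ ∈ K :=
  mul_mem (mul_mem (mul_mem hx hy) (inv_mem hx)) (inv_mem hy)

namespace YS
variable (H : YS T (zpowers z) Y h) (i : Iv z)
include H i

theorem zT : T ≤ 𝐂 (zpowers z) := fun s hs => by
  rw [cent_zpowers, mem_cent1, ← mul_inv_eq_iff_eq_mul]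
  exact (i.mem_zpowers.1 (H.n.conj_mem hs (mem_zpowers z))).resolve_left (i.conj s).ne_one
theorem zc (hs : s ∈ T) : z * s = s * z := H.zT i hs z (mem_zpowers z)

theorem v4 (hx : x ∈ YY T (zpowers z)) (m : x ∉ zpowers z) (e : x * x = 1) : FP z x ∧ V4 z x ⊴ T ∧
    ∀ y ∈ YY T (zpowers z), y ∈ 𝐂₁ x → y * y = 1 → y ∈ V4 z x := by
  have f : FP z x := ⟨i, .mk' (fun j => m (j ▸ one_mem _)) e, H.zc i (YY_le H.n hx), fun j => m (j ▸ mem_zpowers z)⟩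
  have l : V4 z x ≤ YY T (zpowers z) := sup_le (le_YY H.n) (zpowers_le.2 hx)
  have n := normal_of_comm le_sup_left (l.trans (YY_le H.n)) fun _ hy _ => H.cU (l hy)
  exact ⟨f, n, fun y hy c j => H.ne.iv_mem n (fun _ => f.sq) f.card (YY_mono H.n n le_sup_left hy) j (by
    rw [cent_sup, cent_zpowers x]
    exact ⟨H.zT i (YY_le H.n hy), c⟩)⟩

theorem q8 : ∃ x ∈ YY T (zpowers z), ∃ y ∈ YY T (zpowers z), x * x = z ∧ y * y = z ∧ x * y * (x * y) = z := by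
  have sq := fun x (hx : x ∈ YY T (zpowers z)) => i.mem_zpowers.1 (H.sqU hx)
  by_cases c : ♯(YY T (zpowers z)) ≤ 8 * ♯(zpowers z)
  · obtain ⟨x, hx, y, hy, mx, my, mxy, e1, e2⟩ := H.pl (H.zT i) c
    rcases sq x hx with e | e
    swap
    · exact ⟨x, hx, y, hy, e, e1.trans e, e2.trans e⟩
    obtain ⟨f, -, k⟩ := H.v4 i hx mx e
    rcases f.mem.1 (k y hy (c1_of (by
      rw [← comm_of_sq (H.zT i (YY_le H.n hx)) (H.cU hy (YY_le H.n hx)) (mul_one 1) e (e1.trans e), e2, e]))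
      (e1.trans e)) with rfl | rfl | rfl | rfl
    · exact absurd (one_mem _) my
    · exact absurd (mem_zpowers _) my
    · exact absurd (e ▸ one_mem _) mxy
    · exact absurd (by rw [f.mul_mul']; exact mem_zpowers _) mxy
  obtain ⟨u, hu, m, e⟩ : ∃ u ∈ YY T (zpowers z), u ∉ zpowers z ∧ u * u ≠ z := by
    by_contra! j
    have := sv H.n ((YY_le H.n).trans (H.zT i)) le_rfl i j
    omega
  obtain ⟨f, n, k⟩ := H.v4 i hu m ((sq u hu).resolve_right e)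
  have := card_inf_le (x := u) (zpowers z) fun q hq => H.cU hq (YY_le H.n hu)
  obtain ⟨x, hx, y, hy, h1, h2, h3⟩ := two_gen (P := YY T (zpowers z) ⊓ 𝐂₁ u) n
    (inf_le_left.trans (YY_mono H.n n le_sup_left)) (by rw [i.card] at c this; rw [f.card]; omega)
  have q : ∀ a ∈ YY T (zpowers z) ⊓ 𝐂₁ u, a ∉ V4 z u → a * a = z := fun a ha j =>
    (sq a ha.1).resolve_left fun e => j (k a ha.1 ha.2 e)
  exact ⟨x, hx.1, y, hy.1, q x hx h1, q y hy h2, q _ (mul_mem hx hy) h3⟩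

theorem b0 : False := by
  obtain ⟨x, hx, y, hy, ex, ey, exy⟩ := H.q8 i
  have zT := H.zT i
  have xT := YY_le H.n hx
  have yT := YY_le H.n hy
  have zU := mem_zpowers z
  have cyx : ⁅y, x⁆ = z := by rw [← comm_of_sq (zT xT) (H.cU hy xT) i.sq ex ey, exy]
  have cxy : ⁅x, y⁆ = z := by rw [← commutatorElement_inv, cyx, i.inv_eq]
  have cr := fun a ha s hs r => cm (y := a) (s := s) (r := r) H.n (zT hs) ha
  have cs := fun a ha s hs => i.mem_zpowers.1 (H.cU (x := a) (s := s) ha hs)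
  obtain ⟨K, hK⟩ : ∃ K, K = T ⊓ (𝐂₁ x ⊓ 𝐂₁ y) := ⟨_, rfl⟩
  have mK : ∀ {s}, s ∈ K ↔ s ∈ T ∧ ⁅x, s⁆ = 1 ∧ ⁅y, s⁆ = 1 := fun {s} => by
    rw [hK, mem_inf, mem_inf, mem_cent1, mem_cent1, commutatorElement_eq_one_iff_mul_comm,
      commutatorElement_eq_one_iff_mul_comm, eq_comm, eq_comm (a := s * y)]
  have KT : K ≤ T := hK ▸ inf_le_left
  have zK : z ∈ K := mK.2 ⟨H.n.le zU, comm_eq_one (H.zc i xT).symm, comm_eq_one (H.zc i yT).symm⟩
  have xK : x ∉ K := fun j => i.ne_one (cyx.symm.trans (mK.1 j).2.2)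
  have nK : K ⊴ T := ⟨KT, le_norm_iff.2 fun s hs k hk => by
    have j : ∀ a ∈ YY T (zpowers z), ⁅a, k⁆ = 1 → ⁅a, s * k * s⁻¹⁆ = 1 := fun a ha e => by
      rw [cr a ha _ (mul_mem hs (KT hk)) _ (inv_mem hs), cr a ha _ hs _ (KT hk), e, mul_one,
        ← cr a ha _ hs _ (inv_mem hs), mul_inv_cancel, commutatorElement_one_right]
    exact mK.2 ⟨mul_mem (mul_mem hs (KT hk)) (inv_mem hs), j x hx (mK.1 hk).2.1, j y hy (mK.1 hk).2.2⟩⟩
  have lx : zpowers x ≤ YY T (zpowers z) := zpowers_le.2 hx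
  obtain ⟨W, xW, hW⟩ := exists_m4 H.k (normal_of_comm (zpowers_le.2 (ex ▸ mul_mem (mem_zpowers x) (mem_zpowers x)))
    (lx.trans (YY_le H.n)) fun _ ha _ => H.cU (lx ha)) (abel_zpowers x) fun w hw => H.e _ (H.sqU (lx hw))
  replace xW := xW (mem_zpowers x)
  have zW : z ∈ W := ex ▸ mul_mem xW xW
  have dW : ∀ k ∈ 𝐂₁ x, (∀ w ∈ W ⊓ K, k ∈ 𝐂₁ w) → k ∈ 𝐂 W := fun k c j w hw => by
    have h1 := comm_eq_one (hW.a.mul_comm xW hw)
    rcases cs y hy w (hW.n.le hw) with e | e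
    · exact (mem_cent1.1 (j w ⟨hw, mK.2 ⟨hW.n.le hw, h1, e⟩⟩)).symm
    · exact mem_cent1.1 ((mul_mem_cancel_left (mem_cent1_comm.1 c)).1 (mem_cent1_comm.1 (j _ ⟨mul_mem xW hw, mK.2
        ⟨mul_mem xT (hW.n.le hw), by rw [cr x hx x xT w (hW.n.le hw), h1]; simp,
          by rw [cr y hy x xT w (hW.n.le hw), e, cyx, i.sq]⟩⟩)))
  have sqm : ∀ a ∈ W, ∀ b ∈ W, a * b * (a * b) = a * a * (b * b) := fun a ha b hb => by
    rw [sq_mul, comm_eq_one (hW.a.mul_comm hb ha), mul_one, mul_inv_cancel, one_mul]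
  have G1 : ∀ c ∈ W ⊓ K, c * c = 1 → c ∉ zpowers z →
      FP z c ∧ (∀ v ∈ W, v * v = 1 → v ∈ V4 z c) ∧ ∀ w ∈ W ⊓ K, w * w ≠ z := fun c hc e m => by
    have f : FP z c := ⟨i, .mk' (fun j => m (j ▸ one_mem _)) e, H.zc i (KT hc.2), fun j => m (j ▸ zU)⟩
    have j := fun v => H.ne.mem_of_abel (x := v) hW.n hW.a (sup_le (zpowers_le.2 zW) (zpowers_le.2 hc.1))
      (fun _ => f.sq) f.card
    exact ⟨f, j, fun w hw e => xK ((mul_mem_cancel_right (mem_inf.1 hw).2).1 ((sup_le (zpowers_le.2 zK)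
      (zpowers_le.2 hc.2) : V4 z c ≤ K) (j _ (mul_mem xW hw.1) (by rw [sqm x xW w hw.1, ex, e, i.sq]))))⟩
  have zz : ∀ s ∈ T, ∀ v, s * v * s⁻¹ = z → v = z := fun s hs v e => by
    rw [mul_inv_eq_iff_eq_mul, H.zc i hs] at e
    exact mul_left_cancel e
  have F1 : ∀ w ∈ W ⊓ K, w * w ∈ zpowers z := fun w hw => by
    by_contra m
    obtain ⟨f, j1, j2⟩ := G1 _ (mul_mem hw hw) (hW.e w hw.1) m
    refine m (H.zU _ (KT (mul_mem hw hw).2) (fun s hs => mul_inv_eq_iff_eq_mul.1 ?_) (hW.e w hw.1))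
    have h1 := (hW.n.inf nK).conj_mem hs hw
    rcases f.mem.1 (j1 _ (hW.n.conj_mem hs (mul_mem hw hw).1) (f.r.conj s).sq) with e | e | e | e
    · exact absurd e (f.r.conj s).ne_one
    · exact absurd (zz s hs _ e).symm f.ne
    · exact e
    · exact absurd (by rw [sqm _ hw.1 _ h1.1, ← conj_sq', e, f.mul_mul']) (j2 _ (mul_mem hw h1))
  have F2 : ∀ w ∈ W ⊓ K, ∀ k ∈ K, ⁅k, w⁆ ∈ zpowers z := fun w hw k hk => by
    by_contra m
    have h1 : ⁅k, w⁆ ∈ W ⊓ K := mul_mem ((hW.n.inf nK).conj_mem (KT hk) hw) (inv_mem hw)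
    have h3 := conj_of_cent (zT (KT hk)) (F1 w hw)
    rw [conj_sq', conj_eq_comm, sqm _ h1.1 _ hw.1] at h3
    obtain ⟨f, j1, j2⟩ := G1 _ h1 (mul_eq_right.1 h3) m
    have h4 := conj_eq_comm k w
    refine f.r.ne_one ?_
    rcases f.mem.1 (j1 w hw.1 ((i.mem_zpowers.1 (F1 w hw)).resolve_right (j2 w hw))) with e | e | e | e
    · rw [e, commutatorElement_one_right]
    · rw [e, comm_eq_one (H.zc i (KT hk)).symm]
    · have h5 := f.r.sq
      rw [← e] at h4 h5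
      rw [← e, conj_eq_one_iff.1 (h4.trans h5)]
    · have := zz k (KT hk) w (h4.trans (by nth_rw 2 [e]; exact f.mul_mul'))
      exact mul_eq_left.1 (e.symm.trans this)
  have F3 : ∀ k ∈ K, k * k * (k * k) = 1 → k * k ∈ zpowers z := fun k hk e => by
    by_contra m
    have kx : k ∈ 𝐂₁ x := mem_cent1_comm.1 (c1_of (mK.1 hk).2.1)
    have h1 := hW.m _ (KT (mul_mem hk hk)) (dW _ (mul_mem kx kx) fun w hw => c1_of (by
      rw [comm_mul_l, conj_of_cent (zT (KT hk)) (F2 w hw k hk), H.e _ (F2 w hw k hk)])) (by rw [e, mul_one])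
    obtain ⟨f, j1, j2⟩ := G1 _ ⟨h1, mul_mem hk hk⟩ e m
    refine m (F1 k ⟨hW.m k (KT hk) (dW k kx fun w hw => mem_cent1_comm.1 ((sup_le (zpowers_le.2 (mem_cent1.2
      (H.zc i (KT hk)))) (zpowers_le.2 (mul_mem (self_mem_cent1 k) (self_mem_cent1 k))) : V4 z (k * k) ≤ 𝐂₁ k)
      (j1 w hw.1 ((i.mem_zpowers.1 (F1 w hw)).resolve_right (j2 w hw))))) e, hk⟩)
  refine H.Z.isol (H.n.le zU) (cent_symm zT zU) i (fun t ht _ => ?_) fun s hs e => cent_symm zT ?_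
  · rcases cs x hx t ht with e1 | e1
    · exact ⟨x, xT, c1_of e1, ex⟩
    rcases cs y hy t ht with e2 | e2
    · exact ⟨y, yT, c1_of e2, ey⟩
    exact ⟨_, mul_mem xT yT, c1_of (by rw [cl H.n hy (zT xT) ht, e1, e2, i.sq]), exy⟩
  have fin : ∀ d ∈ YY T (zpowers z), d ∈ 𝐂 K → ⁅x, d⁆ = ⁅x, s⁆ → ⁅y, d⁆ = ⁅y, s⁆ → s * s ∈ zpowers z :=
    fun d hd c e1 e2 => by
      have dT := YY_le H.n hd
      have h1 : d * s ∈ K := mK.2 ⟨mul_mem dT hs, by rw [cr x hx d dT s hs, e1, H.e _ (H.cU hx hs)],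
        by rw [cr y hy d dT s hs, e2, H.e _ (H.cU hy hs)]⟩
      have h2 : d * s * (d * s) = d * d * (s * s) := by
        rw [sq_mul, comm_eq_one (mul_left_cancel (a := d) (by rw [← mul_assoc, c _ h1])), mul_one, mul_inv_cancel,
          one_mul]
      have := F3 _ h1 (by
        rw [h2, mul_assoc, ← mul_assoc (s * s), ← zT (mul_mem hs hs) _ (H.sqU hd), mul_assoc (d * d), e, mul_one,
          H.e _ (H.sqU hd)])
      rwa [h2, mul_mem_cancel_left (H.sqU hd)] at this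
  have xc : x ∈ 𝐂 K := fun k hk => (comm_of_eq_one (mK.1 hk).2.1).symm
  have yc : y ∈ 𝐂 K := fun k hk => (comm_of_eq_one (mK.1 hk).2.2).symm
  rcases cs x hx s hs with e1 | e1 <;> rcases cs y hy s hs with e2 | e2
  · exact fin 1 (one_mem _) (one_mem _) (by simp [e1]) (by simp [e2])
  · exact fin x hx xc (by simp [e1]) (cyx.trans e2.symm)
  · exact fin y hy yc (cxy.trans e1.symm) (by simp [e2])
  · exact fin _ (mul_mem hx hy) (mul_mem xc yc) (by rw [cr x hx x xT y yT, cxy, e1]; simp)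
      (by rw [cr y hy x xT y yT, cyx, e2]; simp)

end YS

theorem exists_YS (k : P2 T) (ne : NE T) (Z : ZF T) (hN : ∀ z ∈ T, z ∈ 𝐂 T → z * z = 1 → h * z * h⁻¹ = z)
    (a : h ∈ 𝐍 T) (o : Eo h) (f : h ∉ 𝐂 T) : ∃ U Y g, YS T U Y g := by
  haveI : Fact (Nat.Prime 2) := ⟨p2⟩
  obtain ⟨C, c1, -, c3, c4, c5, c6⟩ := CF.Transfer.exists_critical_subgroup k.isPGroup
  have nC : C ⊴ T := ⟨c1, (le_norm_self T).trans c3⟩
  have aZ : Abel (C ⊓ 𝐂 C) := inf_le_right.trans (cent_anti inf_le_left)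
  have nZ : 𝐍 T ≤ 𝐍 (C ⊓ 𝐂 C : Subgroup G) := norm_inf_cent c3 c3
  have nU := nZ.trans (norm_Om 2 _)
  have mU := fun {x} => mem_om (x := x) aZ
  have UC : 𝛀 2 (C ⊓ 𝐂 C) ≤ C := fun x hx => (mU.1 hx).1.1
  have n : 𝛀 2 (C ⊓ 𝐂 C) ⊴ T := ⟨UC.trans c1, (le_norm_self T).trans nU⟩
  have cz : ∀ x ∈ C, ∀ s ∈ T, ⁅x, s⁆ ∈ C ⊓ 𝐂 C := fun x hx s hs => c5 (commutator_mem_commutator hx hs)
  have cl : ∀ x ∈ C, ∀ y ∈ C, ∀ s ∈ T, ⁅x * y, s⁆ = ⁅y, s⁆ * ⁅x, s⁆ := fun x hx y hy s hs => by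
    rw [comm_mul_l, (cz y hy s hs).2 x hx, mul_inv_cancel_right]
  have sz : ∀ x ∈ C, x * x ∈ C ⊓ 𝐂 C := fun x hx => pow_two x ▸ c4 x hx
  have cc : ∀ x ∈ C, ∀ y ∈ C, ⁅x, y⁆ ∈ 𝛀 2 (C ⊓ 𝐂 C) ⊓ 𝐂 T := fun x hx y hy =>
    ⟨mU.2 ⟨cz x hx y (c1 hy), by rw [← cl x hx x hx y (c1 hy), comm_eq_one ((sz x hx).2 y hy).symm]⟩, fun s hs => by
      have := cl _ (comm_mem hx hy) _ (mul_mem hy hx) s hs
      rw [show ⁅x, y⁆ * (y * x) = x * y by simp only [commutatorElement_def]; group, cl x hx y hy s hs,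
        cl y hy x hx s hs, aZ.mul_comm (cz y hy s hs) (cz x hx s hs)] at this
      exact (comm_of_eq_one (mul_eq_left.1 this.symm)).symm⟩
  have sq : ∀ x ∈ C, ∀ y ∈ C, x * y * (x * y) = ⁅y, x⁆ * (x * x) * (y * y) := fun x hx y hy => by
    rw [sq_mul, (cz y hy x (c1 hx)).2 x hx, mul_inv_cancel_right]
  let Y : Subgroup G :=
    { carrier := {y | y ∈ C ∧ y * y ∈ 𝛀 2 (C ⊓ 𝐂 C) ⊓ 𝐂 T}
      one_mem' := ⟨one_mem _, by simp⟩
      mul_mem' := fun {x y} hx hy => ⟨mul_mem hx.1 hy.1, by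
        rw [sq x hx.1 y hy.1]
        exact mul_mem (mul_mem (cc y hy.1 x hx.1) hx.2) hy.2⟩
      inv_mem' := fun {x} hx => ⟨inv_mem hx.1, by rw [← mul_inv_rev]; exact inv_mem hx.2⟩ }
  have nY : 𝐍 T ≤ 𝐍 Y := le_norm_iff.2 fun g hg y hy => ⟨conj_mem_of_norm (c3 hg) hy.1, by
    rw [← conj_sq']
    exact conj_mem_of_norm (norm_inf nU (norm_le_norm_cent T) hg) hy.2⟩
  have zU : ∀ z ∈ T, z ∈ 𝐂 T → z * z = 1 → z ∈ 𝛀 2 (C ⊓ 𝐂 C) := fun z hz c e =>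
    mU.2 ⟨⟨c6 ⟨hz, cent_anti c1 c⟩, cent_anti c1 c⟩, e⟩
  have hU : h ∈ 𝐂 (𝛀 2 (C ⊓ 𝐂 C)) := by
    obtain ⟨z, hz, i⟩ := exists_iv_of_two (k.le inf_le_left) (k.inf_cent_ne_bot k (le_norm_self T) fun e =>
      f (by rw [e, cent_bot]; trivial))
    have h1 := zU z hz.1 hz.2 i.sq
    have h2 : h ∈ 𝐂₁ z := mem_cent1.2 (mul_inv_eq_iff_eq_mul.1 (hN z hz.1 hz.2 i.sq))
    by_cases l : 𝛀 2 (C ⊓ 𝐂 C) ≤ zpowers z
    · exact cent_anti l (cent_zpowers z ▸ h2)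
    obtain ⟨u, hu, m⟩ := SetLike.not_le_iff_exists.1 l
    have F := fp_of (fun _ hx => (mU.1 hx).2) h1 hu i.ne_one (fun e => m (e ▸ one_mem _)) fun e =>
      m (e ▸ mem_zpowers z)
    have := eq_of_card_le (sup_le (zpowers_le.2 h1) (zpowers_le.2 hu)) (F.card ▸ ne _ n fun _ hx => (mU.1 hx).2)
    exact this ▸ F.cent_of_odd (by rw [V4, this]; exact nU a) (eo_iff.2 o) (left_mem_V4 _ _) i.ne_one h2
  have A := zpowers_le.2 a
  have hZ := aZ.cent_of_Om (k.le (inf_le_left.trans c1)) (A.trans nZ) (cop2' o.zpowers (k.le (inf_le_left.trans c1)))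
    (zpowers_le.2 hU)
  obtain ⟨g, hg, y, hy, e⟩ : ∃ g ∈ zpowers h, ∃ y ∈ Y, ⁅g, y⁆ ∉ 𝛀 2 (C ⊓ 𝐂 C) := by
    by_contra! j
    refine f (zpowers_le.1 (cent_of_self_cent A nC.norm (cop2' o.zpowers (k.le c1)) (cent_of_stable (N := Y)
      (cop2' o.zpowers (k.le fun y hy => c1 hy.1)) (commutator_le.2 fun x hx g hg => ?_) (cent_of_stable
      (cop2' o.zpowers (k.le n.le)) (commutator_le.2 fun x hx g hg => ?_) (zpowers_le.2 hU))) c6))
    · have h1 := conj_mem_of_norm (c3 (A hg)) (inv_mem hx)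
      rw [commutatorElement_def, mul_assoc, mul_assoc, ← mul_assoc g]
      refine ⟨mul_mem hx h1, ?_⟩
      rw [sq x hx _ h1, ← conj_sq', conj_of_cent (hZ hg) (sz _ (inv_mem hx)), ← mul_inv_rev, mul_inv_cancel_right]
      exact cc _ h1 x hx
    · rw [← commutatorElement_inv]
      exact inv_mem (j g hg x hx)
  exact ⟨_, Y, g, k, ne, n, fun _ hx => (mU.1 hx).2, fun u hu => ⟨UC hu, (mU.1 hu).2 ▸ one_mem _⟩,
    fun y hy => (mem_YY n).2 ⟨c1 hy.1, hy.2.1, fun s hs => mU.2 ⟨cz y hy.1 s hs, by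
      rw [← cl y hy.1 y hy.1 s hs, comm_eq_one (hy.2.2 s hs).symm]⟩⟩,
    fun y hy u hu => ((mU.1 hu).1.2 y hy.1).symm, fun y hy => hy.2.2, A hg, nY (A hg), zpowers_le.2 hU hg,
    o.of_mem_zpowers hg, ⟨y, hy, e⟩, zU, Z⟩

theorem macw (n : NS (⊤ : Subgroup G)) (hS : Syl 2 T ⊤) (ne : NE T) (f : ¬ 𝐍 T ≤ T ⊔ 𝐂 T) :
    ♯T = 4 ∨ ♯T = 64 ∨ ♯T = 128 := by
  by_cases hN : ∀ g ∈ 𝐍 T, ∀ z ∈ T, z ∈ 𝐂 T → z * z = 1 → g * z * g⁻¹ = z
  · obtain ⟨g, hg, m⟩ := SetLike.not_le_iff_exists.1 f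
    obtain ⟨s, hs, h, a, -, o, rfl⟩ := CF.DD.odd_part hS hg
    obtain ⟨U, Y, g, H⟩ := exists_YS hS.pi ne (zf n hS hN) (hN h a) a o fun e => m (mul_mem_sup hs e)
    obtain ⟨i, hi⟩ := (H.k.le H.n.le).card_pow
    have := ne U H.n H.e
    have : i ≤ 2 := (Nat.pow_le_pow_iff_right one_lt_two).1 (by omega)
    obtain ⟨z, hz, iz⟩ := exists_iv_of_two (H.k.le inf_le_left) (H.k.inf_cent_ne_bot H.k (le_norm_self T) fun e =>
      m (by rw [e, cent_bot]; exact mem_sup_right trivial))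
    have zU := zpowers_le.2 (H.zU z hz.1 hz.2 iz.sq)
    by_cases c : ♯U = 4
    · by_cases zT : T ≤ 𝐂 U
      · exact (H.b1 hS zT c).elim
      · exact .inr (H.b2 zT c)
    obtain rfl := eq_of_card_le zU (by rw [iz.card]; interval_cases i <;> omega)
    exact (H.b0 iz).elim
  push Not at hN
  obtain ⟨g, hg, z, hz, c, e, m⟩ := hN
  obtain ⟨s, hs, h, a, -, o, rfl⟩ := CF.DD.odd_part hS hg
  have aZ : Abel (T ⊓ 𝐂 T) := inf_le_right.trans (cent_anti inf_le_left)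
  have mU := fun {x} => mem_om (x := x) aZ
  have nU := (norm_inf_cent (le_refl (𝐍 T)) le_rfl).trans (norm_Om 2 _)
  have l : 𝛀 2 (T ⊓ 𝐂 T) ≤ T ⊓ 𝐂 T := Om_le _ _
  have h1 := mU.2 ⟨⟨hz, c⟩, e⟩
  have h2 := conj_mem_of_norm (nU a) h1
  have h3 : h * z * h⁻¹ ≠ z := fun j => m (by
    rw [show s * h * z * (s * h)⁻¹ = s * (h * z * h⁻¹) * s⁻¹ by group, j, c s hs, mul_inv_cancel_right])
  have z1 : z ≠ 1 := by rintro rfl; simp at h3
  have F := fp_of (fun _ hx => (mU.1 hx).2) h1 h2 z1 (conj_ne_one z1 h) h3.symm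
  have n' : 𝛀 2 (T ⊓ 𝐂 T) ⊴ T := ⟨l.trans inf_le_left, (le_norm_self T).trans nU⟩
  exact CA.main ⟨hS.pi, ne, n'.le, cent_symm (l.trans inf_le_right), fun _ hx => (mU.1 hx).2,
    le_antisymm (ne _ n' fun _ hx => (mU.1 hx).2) (F.card ▸ card_le (sup_le (zpowers_le.2 h1) (zpowers_le.2 h2))),
    a, nU a, o, fun j => h3 (conj_of_cent j h1)⟩ n hS

theorem ne_of (h : ∀ A : Subgroup T, A.Normal → IsMulCommutative A → ∃ a b : T, closure {a, b} = A) : NE T :=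
  fun E n e => by
    obtain ⟨a, b, k⟩ := h (E.subgroupOf T) n.normal ⟨⟨fun x y => Subtype.ext (Subtype.ext
      ((CF.ZD.abel_of_sq e).mul_comm x.2 y.2))⟩⟩
    have ha : (a : G) ∈ E := (k.le (subset_closure (by simp)) : a ∈ E.subgroupOf T)
    have hb : (b : G) ∈ E := (k.le (subset_closure (by simp)) : b ∈ E.subgroupOf T)
    have l : E ≤ zpowers (a : G) ⊔ zpowers (b : G) := fun x hx =>
      ((closure_le ((zpowers (a : G) ⊔ zpowers (b : G)).subgroupOf T)).2 (by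
        rintro _ (rfl | rfl)
        exacts [left_mem_V4 _ _, right_mem_V4 _ _]) (k.ge (show (⟨x, n.le hx⟩ : T) ∈ E.subgroupOf T from hx)) :)
    have c : ∀ x ∈ E, ♯(zpowers x) ≤ 2 := fun x hx => by
      rw [Nat.card_zpowers]
      exact Nat.le_of_dvd two_pos (orderOf_dvd_of_pow_eq_one (by rw [pow_two, e x hx]))
    refine (card_le l).trans ((Nat.le_of_dvd (Nat.mul_pos (card_pos' _) (card_pos' _)) (card_sup_dvd (.inl
      (norm_of_cent (cent_mono (CF.ZD.abel_of_sq e) (zpowers_le.2 ha) (zpowers_le.2 hb)))))).trans ?_)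
    exact Nat.mul_le_mul (c _ ha) (c _ hb)

end CF.MW
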